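/-
Dihedral Sylow 2-subgroups of `PSL₂(q)`.
-/
import Mathlib
import Cfsg.Agent.S5317
import Cfsg.Agent.Lib.Fusion.TwoExceptional

set_option autoImplicit false

namespace Cfsg.Agent.Fusion.RankTwoCentral

open scoped MatrixGroups

theorem sylow_PSL_two {F : Type*} [Field F] [Fintype F] (hodd : Fintype.card F % 2 = 1)
    (h16 : 16 ∣ Fintype.card F ^ 2 - 1)
    (S : Sylow 2 (Matrix.ProjectiveSpecialLinearGroup (Fin 2) F)) :
    ∃ a : ℕ, 2 ≤ a ∧ Nonempty (↥(S : Subgroup (Matrix.ProjectiveSpecialLinearGroup (Fin 2) F)) ≃*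
      DihedralGroup (2 ^ a)) := by
    have : Fact (Nat.Prime 2) := ⟨Nat.prime_two⟩
    have h3 : 2 < Fintype.card F := by
      have := Fintype.one_lt_card (α := F)
      omega
    have h2 : (2 : F) ≠ 0 := by
      intro h
      have hc : ringChar F = 2 := CharP.ringChar_of_prime_eq_zero Nat.prime_two h
      have := FiniteField.even_card_iff_char_two.1 hc
      omega
    set q := Fintype.card F with hq
    obtain ⟨k, hk⟩ : ∃ k, q = 2 * k + 1 := ⟨q / 2, by omega⟩
    have hgcd : Nat.gcd 2 (q - 1) = 2 := Nat.gcd_eq_left ⟨k, by omega⟩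
    have hG : 2 * Nat.card (Matrix.ProjectiveSpecialLinearGroup (Fin 2) F) = q * ((q - 1) * (q + 1)) := by
      have h := Cfsg.Agent.Classical.SmallIso.natCard_pslTwo F
      rw [hgcd, Cfsg.Agent.Classical.GL2.natCard_SL_two] at h
      rw [h]
    have h4 : 4 ∣ k * (k + 1) := by
      have e : Fintype.card F ^ 2 - 1 = 4 * (k * (k + 1)) := by
        rw [← hq, hk, show (2 * k + 1) ^ 2 = 4 * (k * (k + 1)) + 1 by ring, Nat.add_sub_cancel]
      rw [e] at h16
      exact (Nat.mul_dvd_mul_iff_left (by norm_num : 0 < 4)).1 h16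
    obtain ⟨H, n, ⟨e⟩, hn, hn0, hidx⟩ : ∃ (H : Subgroup (Matrix.ProjectiveSpecialLinearGroup (Fin 2) F))
        (n : ℕ), Nonempty (↥H ≃* DihedralGroup n) ∧ 4 ∣ n ∧ n ≠ 0 ∧ Odd H.index := by
      rcases Nat.even_or_odd k with he | ho
      · obtain ⟨H, hc, hiso, -⟩ := Cfsg.Agent.Forms.DicksonDihedral.exists_minus (F := F)
        rw [← hq, hgcd, show (q - 1) / 2 = k by omega] at hc hiso
        refine ⟨H, k, hiso, ?_, by omega, ?_⟩
        · exact (Nat.Coprime.dvd_of_dvd_mul_right (Nat.Coprime.pow_left 2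
            (Nat.coprime_two_left.2 he.add_one)) (show 2 ^ 2 ∣ k * (k + 1) from h4))
        · have h := H.card_mul_index
          rw [hc] at h
          have hi : H.index = q * (k + 1) := by
            rw [← h, hk, Nat.add_sub_cancel] at hG
            have hk0 : 0 < k := by omega
            refine Nat.eq_of_mul_eq_mul_left (show 0 < 4 * k by omega) ?_
            rw [hk]
            linarith
          rw [hi]
          exact Nat.odd_mul.2 ⟨Nat.odd_iff.2 (by omega), he.add_one⟩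
      · obtain ⟨H, hc, hiso, -⟩ := Cfsg.Agent.Forms.DicksonDihedral.exists_plus (F := F)
        rw [← hq, hgcd, show (q + 1) / 2 = k + 1 by omega] at hc hiso
        refine ⟨H, k + 1, hiso, ?_, by omega, ?_⟩
        · exact (Nat.Coprime.dvd_of_dvd_mul_left (Nat.Coprime.pow_left 2
            (Nat.coprime_two_left.2 ho)) (show 2 ^ 2 ∣ k * (k + 1) from h4))
        · have h := H.card_mul_index
          rw [hc] at h
          have hi : H.index = q * k := by
            rw [← h, hk, Nat.add_sub_cancel] at hG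
            refine Nat.eq_of_mul_eq_mul_left (show 0 < 4 * (k + 1) by omega) ?_
            rw [hk]
            linarith
          rw [hi]
          exact Nat.odd_mul.2 ⟨Nat.odd_iff.2 (by omega), ho⟩
    obtain ⟨a, ha, ⟨d⟩⟩ := S5317.exists_sylow_iso hn hn0 e hidx S
    exact ⟨a, ha, ⟨d⟩⟩

/-- `PSL₂(q)` with Sylow 2-subgroups `DihedralGroup (2 ^ n)`. -/
theorem exists_psl_two {n : ℕ} (hn : 2 ≤ n) :
    ∃ q : ℕ, ∃ _ : Fact q.Prime, q % 2 = 1 ∧ q % 8 = 7 ∧ ∀ T : Sylow 2 (Matrix.ProjectiveSpecialLinearGroup (Fin 2) (ZMod q)),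
      Nonempty (↥(T : Subgroup (Matrix.ProjectiveSpecialLinearGroup (Fin 2) (ZMod q))) ≃*
        DihedralGroup (2 ^ n)) := by
  have : Fact (Nat.Prime 2) := ⟨Nat.prime_two⟩
  obtain ⟨q, hq, hq3, hq4, hv⟩ := TwoExceptional.exists_prime_eight (m := n + 1) (by omega)
  have : Fact q.Prime := ⟨hq⟩
  have h8 : q % 8 = 7 := by
    have h : 2 ^ 3 ∣ q + 1 := (Nat.Prime.pow_dvd_iff_le_factorization Nat.prime_two (by omega)).2
      (by omega)
    omega
  refine ⟨q, ‹_›, by omega, h8, fun T => ?_⟩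
  have hodd : Fintype.card (ZMod q) % 2 = 1 := by rw [ZMod.card]; omega
  obtain ⟨a, ha, ⟨e⟩⟩ := sylow_PSL_two hodd (by
    rw [ZMod.card]
    obtain ⟨k, hk⟩ : ∃ k, q = 8 * k + 7 := ⟨q / 8, by omega⟩
    exact ⟨4 * k * k + 7 * k + 3, by
      rw [hk, show (8 * k + 7) ^ 2 = 16 * (4 * k * k + 7 * k + 3) + 1 by ring, Nat.add_sub_cancel]⟩) T
  have hcard := Classical.SmallIso.natCard_pslTwo (ZMod q)
  rw [Nat.gcd_eq_left (show 2 ∣ Fintype.card (ZMod q) - 1 by omega)] at hcard
  have hTc := T.card_eq_multiplicity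
  rw [Nat.card_congr e.toEquiv, DihedralGroup.nat_card, ← pow_succ'] at hTc
  have hva := Nat.pow_right_injective le_rfl hTc
  have h2 := TwoExceptional.two_part_SL (F := ZMod q) (by rw [ZMod.card]; exact hq4)
  rw [← hcard, Nat.factorization_mul two_ne_zero Nat.card_pos.ne', Finsupp.add_apply, ← hva,
    Nat.prime_two.factorization_self, ZMod.card, hv] at h2
  obtain rfl : a = n := by omega
  exact ⟨e⟩

end Cfsg.Agent.Fusion.RankTwoCentral
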