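/-
Four-subgroups of a 2-group of rank two, and maps of a saturated system cycling their involutions.
-/
import Mathlib
import Cfsg.Agent.Lib.Fusion.Solvable
import Cfsg.Agent.S1237

set_option autoImplicit false

namespace Cfsg.Agent.Fusion.RankTwoCentral

open Cfsg Cfsg.FusionSystem Cfsg.Agent.Fusion.Basic Cfsg.Agent.Fusion.Saturation

universe u

variable {Ω : Type u} [Group Ω] {S V : Subgroup Ω}

/-- Two commuting distinct involutions of `S` generate every involution commuting with both. -/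
def RankTwo (S : Subgroup Ω) : Prop :=
  ∀ a ∈ S, ∀ b ∈ S, ∀ c ∈ S, a * a = 1 → b * b = 1 → c * c = 1 → a * b = b * a → a * c = c * a →
    b * c = c * b → a ≠ 1 → b ≠ 1 → a ≠ b → c = 1 ∨ c = a ∨ c = b ∨ c = a * b

/-- The set `{1, a, b, ab}` for two commuting involutions, as a subgroup. -/
def fourOf (a b : Ω) (ha : a * a = 1) (hb : b * b = 1) (hab : a * b = b * a) : Subgroup Ω where
  carrier := {x | x = 1 ∨ x = a ∨ x = b ∨ x = a * b}
  one_mem' := Or.inl rfl
  mul_mem' := fun {x y} hx hy => by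
    have e1 : b * a = a * b := hab.symm
    have e2 : ∀ w, a * (a * w) = w := fun w => by rw [← mul_assoc, ha, one_mul]
    have e3 : ∀ w, b * (b * w) = w := fun w => by rw [← mul_assoc, hb, one_mul]
    have e4 : ∀ w, b * (a * w) = a * (b * w) := fun w => by rw [← mul_assoc, e1, mul_assoc]
    show x * y = 1 ∨ x * y = a ∨ x * y = b ∨ x * y = a * b
    rcases hx with rfl | rfl | rfl | rfl <;> rcases hy with rfl | rfl | rfl | rfl <;>
      simp [mul_assoc, ha, hb, e1, e2, e3, e4]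
  inv_mem' := fun {x} hx => by
    have iA : a⁻¹ = a := inv_eq_of_mul_eq_one_right ha
    have iB : b⁻¹ = b := inv_eq_of_mul_eq_one_right hb
    show x⁻¹ = 1 ∨ x⁻¹ = a ∨ x⁻¹ = b ∨ x⁻¹ = a * b
    rcases hx with rfl | rfl | rfl | rfl <;> simp [iA, iB, hab.symm]

theorem mem_fourOf {a b x : Ω} {ha : a * a = 1} {hb : b * b = 1} {hab : a * b = b * a} :
    x ∈ fourOf a b ha hb hab ↔ x = 1 ∨ x = a ∨ x = b ∨ x = a * b := Iff.rfl

theorem rankTwo_of [Finite S] (hS : IsPGroup 2 S) (hr : ¬ PRankAtLeast 2 3 S) : RankTwo S := by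
  intro a haS b hbS c hcS ha hb hc hab hac hbc ha1 hb1 hne
  by_contra hcon
  push Not at hcon
  obtain ⟨hc1, hca, hcb, hcab⟩ := hcon
  have : Fact (Nat.Prime 2) := ⟨Nat.prime_two⟩
  apply hr
  let gs : Set S := {⟨a, haS⟩, ⟨b, hbS⟩, ⟨c, hcS⟩}
  have hcg : ∀ x ∈ gs, ∀ y ∈ gs, x * y = y * x := by
    rintro x (rfl | rfl | rfl) y (rfl | rfl | rfl) <;> refine Subtype.ext ?_ <;>
      simp only [Subgroup.coe_mul, hab, hac, hbc]
  let A : Subgroup S := Subgroup.closure gs
  have hA : IsMulCommutative A := Subgroup.isMulCommutative_closure hcg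
  refine ⟨A, hA, fun x hx => ?_, ?_⟩
  · induction hx using Subgroup.closure_induction with
    | mem x hx => rcases hx with rfl | rfl | rfl <;> refine Subtype.ext ?_ <;> simp [sq, ha, hb, hc]
    | one => exact one_pow _
    | mul x y hx hy ihx ihy =>
      have h := congrArg Subtype.val (hA.is_comm.comm (⟨x, hx⟩ : A) ⟨y, hy⟩)
      rw [Commute.mul_pow h, ihx, ihy, one_mul]
    | inv x _ ih => rw [inv_pow, ih, inv_one]
  · let K : Subgroup A := ((fourOf a b ha hb hab).comap S.subtype).comap A.subtype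
    have hm : ∀ {x : Ω} (hx : x ∈ S), (⟨x, hx⟩ : S) ∈ A → ∀ (hx' : x ∈ fourOf a b ha hb hab),
        ∃ k : K, ((k : A) : S).1 = x := fun hx h hx' => ⟨⟨⟨⟨_, hx⟩, h⟩, hx'⟩, rfl⟩
    have hmA : (⟨a, haS⟩ : S) ∈ A := Subgroup.subset_closure (Or.inl rfl)
    have hmB : (⟨b, hbS⟩ : S) ∈ A := Subgroup.subset_closure (Or.inr (Or.inl rfl))
    obtain ⟨ka, hka⟩ := hm haS hmA (Or.inr (Or.inl rfl))
    obtain ⟨kb, hkb⟩ := hm hbS hmB (Or.inr (Or.inr (Or.inl rfl)))
    obtain ⟨kab, hkab⟩ := hm (S.mul_mem haS hbS) (A.mul_mem hmA hmB) (Or.inr (Or.inr (Or.inr rfl)))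
    have hcK : K < ⊤ := lt_of_le_of_ne le_top fun h => by
      have h1 : (⟨⟨c, hcS⟩, Subgroup.subset_closure (Or.inr (Or.inr rfl))⟩ : A) ∈ K := h ▸ trivial
      rcases (h1 : c ∈ fourOf a b ha hb hab) with h | h | h | h <;> contradiction
    have h4 : 4 ≤ Nat.card K := by
      refine le_trans (le_of_eq (Nat.card_eq_fintype_card (α := Fin 4)).symm)
        (Nat.card_le_card_of_injective ![1, ka, kb, kab] ?_)
      have e1 : (((1 : K) : A) : S).1 = 1 := rfl
      intro i j hij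
      have h := congrArg (fun k : K => ((k : A) : S).1) hij
      fin_cases i <;> fin_cases j <;> simp [e1, hka, hkb, hkab] at h ⊢
      all_goals first
        | exact ha1 h | exact ha1 h.symm | exact hb1 h | exact hb1 h.symm
        | exact hne h | exact hne h.symm
        | exact hne (by rw [← inv_eq_of_mul_eq_one_right hb]; exact eq_inv_of_mul_eq_one_left h)
        | exact hne (by rw [← inv_eq_of_mul_eq_one_right hb]; exact eq_inv_of_mul_eq_one_left h.symm)
    have h8 : 2 * Nat.card K ≤ Nat.card A := by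
      rw [← Subgroup.index_mul_card K]
      exact Nat.mul_le_mul_right _ (Subgroup.one_lt_index_of_ne_top hcK.ne)
    omega

theorem exists_pair [Finite S] (hr : PRankAtLeast 2 2 S) :
    ∃ a ∈ S, ∃ b ∈ S, a * a = 1 ∧ b * b = 1 ∧ a * b = b * a ∧ a ≠ 1 ∧ b ≠ 1 ∧ a ≠ b := by
  obtain ⟨A, hA, hsq, hcard⟩ := hr
  have : Fintype A := Fintype.ofFinite _
  rw [Nat.card_eq_fintype_card] at hcard
  obtain ⟨x, hx⟩ := Fintype.exists_ne_of_one_lt_card (by omega) (1 : A)
  obtain ⟨y, hy1, hy2⟩ := Fintype.two_lt_card_iff.1 (show 2 < Fintype.card A by omega) |>.elim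
    fun p hp => hp.elim fun q hq => hq.elim fun r hr => (show ∃ y : A, y ≠ 1 ∧ y ≠ x by
      obtain ⟨h1, h2, h3⟩ := hr
      by_contra h
      push Not at h
      rcases eq_or_ne p 1 with rfl | hp' <;> rcases eq_or_ne q 1 with rfl | hq' <;>
        rcases eq_or_ne r 1 with rfl | hr' <;>
        first
          | exact absurd rfl h1 | exact absurd rfl h2 | exact absurd rfl h3
          | exact h3 ((h q hq').trans (h r hr').symm)
          | exact h2 ((h p hp').trans (h r hr').symm)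
          | exact h1 ((h p hp').trans (h q hq').symm))
  have hs : ∀ u : A, (u : S).1 * (u : S).1 = 1 := fun u => by
    have h := congrArg Subtype.val (hsq u u.2)
    simpa [sq] using h
  refine ⟨_, (x : S).2, _, (y : S).2, hs x, hs y, ?_, ?_, ?_, ?_⟩
  · exact congrArg (fun w : A => (w : S).1) (hA.is_comm.comm x y)
  all_goals intro h
  · exact hx (Subtype.ext (Subtype.ext h))
  · exact hy1 (Subtype.ext (Subtype.ext h))
  · exact hy2 (Subtype.ext (Subtype.ext h.symm))

theorem exists_central_involution [Finite S] (hS : IsPGroup 2 S) (hne : S ≠ ⊥) :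
    ∃ z ∈ S, z * z = 1 ∧ z ≠ 1 ∧ ∀ s ∈ S, z * s = s * z := by
  have : Fact (Nat.Prime 2) := ⟨Nat.prime_two⟩
  have : Nontrivial S := (Subgroup.nontrivial_iff_ne_bot S).2 hne
  have : Nontrivial (Subgroup.center S) := hS.center_nontrivial
  obtain ⟨w, hw⟩ := exists_prime_orderOf_dvd_card' (G := Subgroup.center S) 2
    ((hS.to_subgroup _).nontrivial_iff_card.1 inferInstance |>.elim fun n hn => by
      rw [hn.2]; exact dvd_pow_self 2 hn.1.ne')
  refine ⟨((w : S) : Ω), (w : S).2, ?_, ?_, fun s hs => ?_⟩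
  · have h := pow_orderOf_eq_one w
    rw [hw, sq] at h
    exact congrArg (fun v : Subgroup.center S => ((v : S) : Ω)) h
  · intro h
    have h1 : w = 1 := Subtype.ext (Subtype.ext h)
    rw [h1, orderOf_one] at hw
    omega
  · exact congrArg Subtype.val ((Subgroup.mem_center_iff.1 w.2 ⟨s, hs⟩)).symm

/-- Every four-group contains the central involution. -/
theorem eq_of_four (hr : RankTwo S) {z a b : Ω} (hz : z ∈ S) (hz2 : z * z = 1) (hz1 : z ≠ 1)
    (hzc : ∀ s ∈ S, z * s = s * z) (ha : a ∈ S) (hb : b ∈ S) (ha2 : a * a = 1) (hb2 : b * b = 1)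
    (hab : a * b = b * a) (ha1 : a ≠ 1) (hb1 : b ≠ 1) (hne : a ≠ b) :
    z = a ∨ z = b ∨ z = a * b :=
  (hr a ha b hb z hz ha2 hb2 hz2 hab (hzc a ha).symm (hzc b hb).symm ha1 hb1 hne).resolve_left hz1

/-- A central involution and another one. -/
theorem exists_other [Finite S] (hr2 : PRankAtLeast 2 2 S) (z : Ω) :
    ∃ t ∈ S, t * t = 1 ∧ t ≠ 1 ∧ t ≠ z := by
  obtain ⟨a, ha, b, hb, ha2, hb2, hab, ha1, hb1, hne⟩ := exists_pair hr2
  by_cases h : a = z
  · exact ⟨b, hb, hb2, hb1, fun h' => hne (h.trans h'.symm)⟩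
  · exact ⟨a, ha, ha2, ha1, h⟩

end Cfsg.Agent.Fusion.RankTwoCentral
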