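/-
In a saturated system with trivial centre some map permutes the involutions of a fully normalized
four-subgroup cyclically; it extends to the centralizer.
-/
import Mathlib
import Cfsg.Agent.Lib.Fusion.RankTwoCentral.Fours

set_option autoImplicit false

namespace Cfsg.Agent.Fusion.RankTwoCentral

open Cfsg Cfsg.FusionSystem Cfsg.Agent.Fusion.Basic Cfsg.Agent.Fusion.Saturation
  Cfsg.Agent.Fusion.Normal

universe u

variable {Ω : Type u} [Group Ω] {S V W : Subgroup Ω} {F : FusionSystem S}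

/-- A four-subgroup of `S` given by its three involutions. -/
structure Four (S : Subgroup Ω) (V : Subgroup Ω) (z t : Ω) : Prop where
  zS : z ∈ S
  tS : t ∈ S
  z2 : z * z = 1
  t2 : t * t = 1
  z1 : z ≠ 1
  t1 : t ≠ 1
  ne : t ≠ z
  comm : z * t = t * z
  mem : ∀ {x : Ω}, x ∈ V ↔ x = 1 ∨ x = z ∨ x = t ∨ x = z * t

theorem four_fourOf {z t : Ω} (zS : z ∈ S) (tS : t ∈ S) (z2 : z * z = 1) (t2 : t * t = 1)
    (z1 : z ≠ 1) (t1 : t ≠ 1) (ne : t ≠ z) (comm : z * t = t * z) :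
    Four S (fourOf z t z2 t2 comm) z t :=
  ⟨zS, tS, z2, t2, z1, t1, ne, comm, mem_fourOf⟩

namespace Four

variable {z t : Ω}

theorem le (h : Four S V z t) : V ≤ S := fun x hx => by
  rcases h.mem.1 hx with rfl | rfl | rfl | rfl
  exacts [S.one_mem, h.zS, h.tS, S.mul_mem h.zS h.tS]

theorem zV (h : Four S V z t) : z ∈ V := h.mem.2 (Or.inr (Or.inl rfl))

theorem tV (h : Four S V z t) : t ∈ V := h.mem.2 (Or.inr (Or.inr (Or.inl rfl)))

theorem sq (h : Four S V z t) {x : Ω} (hx : x ∈ V) : x * x = 1 := by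
  rcases h.mem.1 hx with rfl | rfl | rfl | rfl
  · exact one_mul 1
  · exact h.z2
  · exact h.t2
  · rw [mul_assoc, ← mul_assoc t z t, ← h.comm, mul_assoc z t t, h.t2, mul_one, h.z2]

theorem comm' (h : Four S V z t) {x y : Ω} (hx : x ∈ V) (hy : y ∈ V) : x * y = y * x := by
  have h1 := h.sq (V.mul_mem hx hy)
  have e1 := inv_eq_of_mul_eq_one_right h1
  rw [mul_inv_rev, inv_eq_of_mul_eq_one_right (h.sq hx), inv_eq_of_mul_eq_one_right (h.sq hy)] at e1
  exact e1.symm

theorem zt_ne (h : Four S V z t) : z * t ≠ 1 ∧ z * t ≠ z ∧ z * t ≠ t :=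
  ⟨fun e => h.ne (by rw [← inv_eq_of_mul_eq_one_right e, inv_eq_of_mul_eq_one_right h.z2]),
    fun e => h.t1 (mul_left_cancel (e.trans (mul_one z).symm)),
    fun e => h.z1 (mul_right_cancel (e.trans (one_mul t).symm))⟩

/-- Any two distinct involutions of `V` give `V`. -/
theorem rebase (h : Four S V z t) {a b : Ω} (ha : a ∈ V) (hb : b ∈ V) (ha1 : a ≠ 1) (hb1 : b ≠ 1)
    (hne : b ≠ a) : Four S V a b := by
  refine ⟨h.le ha, h.le hb, h.sq ha, h.sq hb, ha1, hb1, hne, h.comm' ha hb, fun {x} => ?_⟩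
  constructor
  · intro hx
    have e1 : t * z = z * t := h.comm.symm
    have e2 : ∀ w, z * (z * w) = w := fun w => by rw [← mul_assoc, h.z2, one_mul]
    have e4 : ∀ w, t * (z * w) = z * (t * w) := fun w => by rw [← mul_assoc, e1, mul_assoc]
    rcases h.mem.1 hx with rfl | rfl | rfl | rfl <;> rcases h.mem.1 ha with rfl | rfl | rfl | rfl <;>
      rcases h.mem.1 hb with rfl | rfl | rfl | rfl <;>
      simp_all [mul_assoc, h.t2]
  · rintro (rfl | rfl | rfl | rfl)
    exacts [V.one_mem, ha, hb, V.mul_mem ha hb]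

end Four

/-- `f` permutes the involutions of `V` without fixing one. -/
def Cyclic3 (V : Subgroup Ω) (f : Ω → Ω) : Prop :=
  (∀ x ∈ V, f x ∈ V) ∧ ∀ x ∈ V, x ≠ 1 → f x ≠ x

theorem cycle_eq {z t : Ω} {f : Ω → Ω} (h : Four S V z t) (hf : IsMap F V f) (hc : Cyclic3 V f)
    (hz : f z = t) : f t = z * t ∧ f (z * t) = z := by
  have h1 : f (z * t) = t * f t := by rw [hf.map_mul h.zV h.tV, hz]
  have ht1 : f t ≠ 1 := fun e => h.t1 (hf.inj h.tV V.one_mem (by rw [e, hf.map_one]))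
  rcases h.mem.1 (hc.1 t h.tV) with e | e | e | e
  · exact absurd e ht1
  · exact absurd (by rw [h1, e, h.comm])
      (hc.2 _ (V.mul_mem h.zV h.tV) h.zt_ne.1)
  · exact absurd e (hc.2 _ h.tV h.t1)
  · refine ⟨e, ?_⟩
    rw [h1, e, h.comm, ← mul_assoc, h.t2, one_mul]

/-- Enough automorphisms of a four-group give a cycle. -/
theorem exists_cycle {z t : Ω} (h : Four S V z t) {f₁ f₂ : Ω → Ω} (hf₁ : IsMap F V f₁)
    (hm₁ : ∀ x ∈ V, f₁ x ∈ V) (hf₂ : IsMap F V f₂) (hm₂ : ∀ x ∈ V, f₂ x ∈ V)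
    (h₁ : f₁ z = t) (h₂ : f₂ z = z * t) : ∃ f, IsMap F V f ∧ Cyclic3 V f := by
  have mk : ∀ f : Ω → Ω, IsMap F V f → (∀ x ∈ V, f x ∈ V) → f z ≠ z → f t ≠ t →
      f (z * t) ≠ z * t → ∃ f, IsMap F V f ∧ Cyclic3 V f := fun f hf hm a b c =>
    ⟨f, hf, hm, fun x hx hx1 => by
      rcases h.mem.1 hx with rfl | rfl | rfl | rfl
      exacts [absurd rfl hx1, a, b, c]⟩
  have img3 : ∀ {f : Ω → Ω} (hf : IsMap F V f) (hm : ∀ x ∈ V, f x ∈ V) {x : Ω}, x ∈ V → x ≠ 1 →
      f x = z ∨ f x = t ∨ f x = z * t := by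
    intro f hf hm x hx hx1
    exact (h.mem.1 (hm x hx)).resolve_left
      fun e => hx1 (hf.inj hx V.one_mem (by rw [e, hf.map_one]))
  have hzt : z * t ∈ V := V.mul_mem h.zV h.tV
  obtain ⟨-, n2, n3⟩ := h.zt_ne
  by_cases a : f₁ t = z
  · have a' : f₁ (z * t) = z * t := by rw [hf₁.map_mul h.zV h.tV, h₁, a, h.comm]
    by_cases b : f₂ (z * t) = z
    · have b' : f₂ t = t := by
        have e : f₂ (z * (z * t)) = f₂ z * f₂ (z * t) := hf₂.map_mul h.zV hzt
        rw [h₂, b, ← mul_assoc z z t, h.z2, one_mul, h.comm, mul_assoc, h.z2, mul_one] at e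
        exact e
      refine mk (fun x => f₁ (f₂ x)) (hf₁.comp hf₂ hm₂) (fun x hx => hm₁ _ (hm₂ x hx)) ?_ ?_ ?_
      · show f₁ (f₂ z) ≠ z
        rw [h₂, a']; exact n2
      · show f₁ (f₂ t) ≠ t
        rw [b', a]; exact fun e => h.ne e.symm
      · show f₁ (f₂ (z * t)) ≠ z * t
        rw [b, h₁]; exact fun e => n3 e.symm
    · have b' : f₂ (z * t) = t := by
        rcases img3 hf₂ hm₂ hzt h.zt_ne.1 with e | e | e
        · exact absurd e b
        · exact e
        · exact absurd (hf₂.inj hzt h.zV (e.trans h₂.symm)) n2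
      refine mk f₂ hf₂ hm₂ (by rw [h₂]; exact n2) ?_ (by rw [b']; exact fun e => n3 e.symm)
      intro e
      exact n3 (hf₂.inj hzt h.tV (b'.trans e.symm))
  · have a' : f₁ t = z * t := by
      rcases img3 hf₁ hm₁ h.tV h.t1 with e | e | e
      · exact absurd e a
      · exact absurd (hf₁.inj h.tV h.zV (e.trans h₁.symm)) h.ne
      · exact e
    refine mk f₁ hf₁ hm₁ (by rw [h₁]; exact h.ne) (by rw [a']; exact n3) ?_
    rw [hf₁.map_mul h.zV h.tV, h₁, a', h.comm, ← mul_assoc, h.t2, one_mul]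
    exact fun e => h.t1 (mul_right_cancel (e.symm.trans (one_mul z).symm))

variable [Finite S]

/-- If the centre is trivial an element of order two is moved by some automorphism of `S` or of an
essential subgroup. -/
theorem exists_mover (hS : IsPGroup 2 S) (hF : F.IsSaturated 2) (hZ : F.center = ⊥) {z : Ω}
    (hz : z ∈ S) (hz2 : z * z = 1) (hz1 : z ≠ 1) (hzc : ∀ s ∈ S, z * s = s * z) :
    ∃ P : Subgroup Ω, (P = S ∨ F.IsEssential 2 P) ∧ z ∈ P ∧
      ∃ α ∈ F.autGroup P, autFun α z ≠ z := by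
  have : Fact (Nat.Prime 2) := ⟨Nat.prime_two⟩
  by_contra hcon
  push Not at hcon
  let Z : Subgroup Ω := Subgroup.zpowers z
  have hZmem : ∀ {x : Ω}, x ∈ Z → x = 1 ∨ x = z := by
    intro x hx
    obtain ⟨k, rfl⟩ := Subgroup.mem_zpowers_iff.1 hx
    rcases Int.even_or_odd k with ⟨j, rfl⟩ | ⟨j, rfl⟩
    · exact Or.inl (by rw [← two_mul, zpow_mul, zpow_two, hz2, one_zpow])
    · exact Or.inr (by rw [zpow_add, zpow_mul, zpow_two, hz2, one_zpow, one_mul, zpow_one])
  have hzP : ∀ P : Subgroup Ω, (P = S ∨ F.IsEssential 2 P) → z ∈ P := by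
    rintro P (rfl | hP)
    · exact hz
    · exact centric_centralizerIn_le hP.1 ⟨hz, fun x hx => (hzc x (hP.1.1 hx)).symm⟩
  have hn : F.IsNormal Z := normal_of_invariant hS hF fun P hP => by
    refine ⟨Subgroup.zpowers_le.2 (hzP P hP), fun α hα => ?_⟩
    refine (img_congr (g := id) fun x hx => ?_).trans (img_id Z)
    rcases hZmem hx with rfl | rfl
    · exact (autFun_isHom α).map_one
    · exact hcon P hP (hzP P hP) α hα
  have hc : F.IsCentral Z := isCentral_iff.2 ⟨hn.1, fun P f hf => by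
    obtain ⟨g, hg, he, hgZ⟩ := (isNormal_iff.1 hn).2 P f hf
    refine ⟨g, hg, he, fun x hx => ?_⟩
    rcases hZmem hx with rfl | rfl
    · exact hg.map_one
    · have hx' : x ∈ P ⊔ Z := Subgroup.mem_sup_right (Subgroup.mem_zpowers x)
      rcases hZmem (hgZ.le (mem_img_self g (Subgroup.mem_zpowers x))) with e | e
      · exact absurd (hg.inj hx' (P ⊔ Z).one_mem (by rw [e, hg.map_one])) hz1
      · exact e⟩
  have hZ1 := le_center hc
  rw [hZ] at hZ1
  exact hz1 (by simpa using hZ1 (Subgroup.mem_zpowers z))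

/-- With two central involutions, a cycle on the group of all involutions. -/
theorem cycle_of_two (hS : IsPGroup 2 S) (hr : RankTwo S) (hF : F.IsSaturated 2)
    (hZ : F.center = ⊥) {z t : Ω} (h : Four S V z t) (hzc : ∀ s ∈ S, z * s = s * z)
    (htc : ∀ s ∈ S, t * s = s * t) : ∃ f, IsMap F V f ∧ Cyclic3 V f := by
  have : Fact (Nat.Prime 2) := ⟨Nat.prime_two⟩
  have hall : ∀ {u : Ω}, u ∈ S → u * u = 1 → u ∈ V := fun {u} hu hu2 =>
    h.mem.2 (hr z h.zS t h.tS u hu h.z2 h.t2 hu2 h.comm (hzc u hu) (htc u hu) h.z1 h.t1 h.ne.symm)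
  have hsc : F.StronglyClosed V := ⟨h.le, fun R hR φ hφ x => hall ((F.le_of_mem hφ).2 x) (by
    rw [← map_mul, show x * x = (1 : R) from Subtype.ext (h.sq (hR x.2)), map_one])⟩
  have hn : F.IsNormal V := Solvable.normal_of_abelian hS hF hsc fun x hx y hy => by
    rw [h.comm' hx hy]; group
  have hmove : ∀ v ∈ V, v ≠ 1 → ∃ f, IsMap F V f ∧ (∀ x ∈ V, f x ∈ V) ∧ f v ≠ v := by
    intro v hv hv1
    by_contra hcon
    push Not at hcon
    have hv2 := h.sq hv
    have hc : F.IsCentral (Subgroup.zpowers v) :=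
      isCentral_iff.2 ⟨Subgroup.zpowers_le.2 (h.le hv), fun P f hf => by
        obtain ⟨g, hg, he, hgV⟩ := (isNormal_iff.1 hn).2 P f hf
        refine ⟨g, hg.restrict (sup_le_sup_left (Subgroup.zpowers_le.2 hv) P), he, ?_⟩
        intro x hx
        obtain ⟨k, rfl⟩ := Subgroup.mem_zpowers_iff.1 hx
        have hgv : g v = v := hcon g (hg.restrict le_sup_right)
          (fun x hx => hgV.le (mem_img_self g hx)) 
        rcases Int.even_or_odd k with ⟨j, rfl⟩ | ⟨j, rfl⟩
        · rw [← two_mul, zpow_mul, zpow_two, hv2, one_zpow, hg.map_one]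
        · rw [zpow_add, zpow_mul, zpow_two, hv2, one_zpow, one_mul, zpow_one, hgv]⟩
    have hZ1 := le_center hc
    rw [hZ] at hZ1
    exact hv1 (by simpa using hZ1 (Subgroup.mem_zpowers v))
  have inv : ∀ {f : Ω → Ω}, IsMap F V f → (∀ x ∈ V, f x ∈ V) → ∃ i, IsMap F V i ∧
      (∀ x ∈ V, i x ∈ V) ∧ ∀ x ∈ V, i (f x) = x := by
    intro f hf hm
    have : Finite V := finite_of_le h.le
    have himg : img f V = V := eq_of_le_card (img_le hm) hf.card_img.ge
    obtain ⟨α, hα, he⟩ := hf.exists_aut himg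
    exact ⟨autFun α⁻¹, isMap_of_mem_autGroup h.le (Subgroup.inv_mem _ hα),
      fun x hx => autFun_mem _ hx, fun x hx => by rw [← he x hx, autFun_inv_apply]⟩
  obtain ⟨-, n2, n3⟩ := h.zt_ne
  have hzt : z * t ∈ V := V.mul_mem h.zV h.tV
  obtain ⟨f₁, hf₁, hm₁, h₁⟩ := hmove z h.zV h.z1
  -- rename so that `f₁` sends `z` to `t`
  have key : ∀ t, Four S V z t → f₁ z = t → ∃ f, IsMap F V f ∧ Cyclic3 V f := by
    intro t h h₁
    have hzt : z * t ∈ V := V.mul_mem h.zV h.tV
    obtain ⟨-, n2, n3⟩ := h.zt_ne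
    obtain ⟨g, hg, hgm, hgne⟩ := hmove (z * t) hzt h.zt_ne.1
    obtain ⟨i, hi, him, hie⟩ := inv hg hgm
    rcases h.mem.1 (hgm _ hzt) with e | e | e | e
    · exact absurd (hg.inj hzt V.one_mem (by rw [e, hg.map_one])) h.zt_ne.1
    · exact exists_cycle h hf₁ hm₁ hi him h₁ ((congrArg i e).symm.trans (hie _ hzt))
    · exact exists_cycle h hf₁ hm₁ (hi.comp hf₁ hm₁) (fun x hx => him _ (hm₁ x hx)) h₁
        ((congrArg i (h₁.trans e.symm)).trans (hie _ hzt))
    · exact absurd e hgne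
  rcases h.mem.1 (hm₁ z h.zV) with e | e | e | e
  · exact absurd (hf₁.inj h.zV V.one_mem (by rw [e, hf₁.map_one])) h.z1
  · exact absurd e h₁
  · exact key t h e
  · exact key _ (h.rebase h.zV hzt h.z1 h.zt_ne.1 n2) e

/-- With a single central involution, a cycle on some four-group through it. -/
theorem cycle_of_one (hS : IsPGroup 2 S) (hr : RankTwo S) (hF : F.IsSaturated 2)
    (hZ : F.center = ⊥) {z : Ω} (hz : z ∈ S) (hz2 : z * z = 1) (hz1 : z ≠ 1)
    (hzc : ∀ s ∈ S, z * s = s * z)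
    (huniq : ∀ u ∈ S, u * u = 1 → (∀ s ∈ S, u * s = s * u) → u = 1 ∨ u = z) :
    ∃ V t f, Four S V z t ∧ IsMap F V f ∧ Cyclic3 V f := by
  classical
  have : Fact (Nat.Prime 2) := ⟨Nat.prime_two⟩
  obtain ⟨P, hP, hzP, α, hα, hne⟩ := exists_mover hS hF hZ hz hz2 hz1 hzc
  have hPS : P ≤ S := hP.elim (fun h => h.le) (fun h => h.1.1)
  rcases hP with rfl | hP
  · refine absurd ?_ hne
    have hw : autFun α z ∈ P := autFun_mem α hz
    refine (huniq _ hw ?_ fun s hs => ?_).resolve_left fun e => ?_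
    · rw [← (autFun_isHom α) z hz z hz, hz2, (autFun_isHom α).map_one]
    · have h1 := autFun_mem α⁻¹ hs
      rw [← autFun_apply_inv α s, ← (autFun_isHom α) z hz _ h1, hzc _ h1,
        (autFun_isHom α) _ h1 z hz]
    · exact hz1 (by rw [← autFun_inv_apply α z, e, (autFun_isHom α⁻¹).map_one])
  set A := F.autGroup P with hA
  have hmap : ∀ a ∈ A, IsMap F P (autFun a) := fun a ha => isMap_of_mem_autGroup hPS ha
  -- the involutions central in `P`
  have himgW : ∀ a : MulAut P, ∀ x ∈ P, x * x = 1 → (∀ y ∈ P, x * y = y * x) →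
      autFun a x * autFun a x = 1 ∧ ∀ y ∈ P, autFun a x * y = y * autFun a x := by
    intro a x hx hx2 hxc
    refine ⟨by rw [← (autFun_isHom a) x hx x hx, hx2, (autFun_isHom a).map_one], fun y hy => ?_⟩
    have h1 := autFun_mem a⁻¹ hy
    rw [← autFun_apply_inv a y, ← (autFun_isHom a) x hx _ h1, hxc _ h1,
      (autFun_isHom a) _ h1 x hx]
  set t := autFun α z with ht
  obtain ⟨ht2, htc⟩ := himgW α z hzP hz2 fun y hy => hzc y (hPS hy)
  have htP : t ∈ P := autFun_mem α hzP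
  have ht1 : t ≠ 1 := fun e => hz1 (by
    rw [← autFun_inv_apply α z, ← ht, e, (autFun_isHom α⁻¹).map_one])
  have h := four_fourOf hz (hPS htP) hz2 ht2 hz1 ht1 hne (hzc t (hPS htP))
  set W := fourOf z t hz2 ht2 (hzc t (hPS htP))
  have hWP : W ≤ P := fun x hx => by
    rcases mem_fourOf.1 hx with rfl | rfl | rfl | rfl
    exacts [P.one_mem, hzP, htP, P.mul_mem hzP htP]
  have hWc : ∀ x ∈ W, ∀ y ∈ P, x * y = y * x := fun x hx y hy => by
    rcases mem_fourOf.1 hx with rfl | rfl | rfl | rfl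
    · rw [one_mul, mul_one]
    · exact hzc y (hPS hy)
    · exact htc y hy
    · rw [mul_assoc, htc y hy, ← mul_assoc, hzc y (hPS hy), mul_assoc]
  have hWm : ∀ (a : MulAut P), ∀ x ∈ W, autFun a x ∈ W := fun a x hx => by
    obtain ⟨e2, ec⟩ := himgW a x (hWP hx) (h.sq hx) (hWc x hx)
    exact h.mem.2 (hr z hz t h.tS _ (hPS (autFun_mem a (hWP hx))) hz2 ht2 e2 h.comm
      (ec z hzP).symm (ec t htP).symm hz1 ht1 h.ne.symm)
  suffices hex : ∃ b ∈ A, autFun b z = z * t by
    obtain ⟨b, hb, hbe⟩ := hex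
    obtain ⟨f, hf, hc⟩ := exists_cycle h ((hmap α hα).restrict hWP) (hWm α)
      ((hmap b hb).restrict hWP) (hWm b) ht.symm hbe
    exact ⟨W, t, f, h, hf, hc⟩
  by_contra hcon
  push Not at hcon
  have horb : ∀ a : A, autFun (a : MulAut P) z = z ∨ autFun (a : MulAut P) z = t := fun a => by
    rcases h.mem.1 (hWm a z h.zV) with e | e | e | e
    · exact absurd (by rw [← autFun_inv_apply (a : MulAut P) z, e,
        (autFun_isHom (a : MulAut P)⁻¹).map_one]) hz1
    · exact Or.inl e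
    · exact Or.inr e
    · exact absurd e (hcon _ a.2)
  let H : Subgroup A :=
    { carrier := {a | autFun (a : MulAut P) z = z}
      one_mem' := by simp [autFun_one]
      mul_mem' := fun {a b} (ha : autFun _ z = z) (hb : autFun _ z = z) => by
        show autFun ((a * b : A) : MulAut P) z = z
        rw [Subgroup.coe_mul, autFun_mul, hb, ha]
      inv_mem' := fun {a} (ha : autFun _ z = z) => by
        show autFun ((a⁻¹ : A) : MulAut P) z = z
        rw [Subgroup.coe_inv]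
        conv_lhs => rw [← ha]
        exact autFun_inv_apply _ _ }
  have hH : H.index = 2 := by
    refine Subgroup.index_eq_two_iff.2 ⟨⟨α, hα⟩, fun b => ?_⟩
    show Xor (autFun ((b * ⟨α, hα⟩ : A) : MulAut P) z = z) (autFun (b : MulAut P) z = z)
    rw [Subgroup.coe_mul, autFun_mul, ← ht]
    rcases horb b with e | e
    · refine Or.inr ⟨e, fun e' => hne ?_⟩
      exact (hmap _ b.2).inj htP hzP (e'.trans e.symm)
    · refine Or.inl ⟨?_, by rw [e]; exact hne⟩
      have h1 := horb (b * ⟨α, hα⟩)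
      rw [Subgroup.coe_mul, autFun_mul, ← ht] at h1
      refine h1.resolve_right fun e' => hne ?_
      exact (hmap _ b.2).inj htP hzP (e'.trans e.symm)
  have hodd := ((fullyAutomized_iff hS).1 (fullyNormalized_fullyAutomized hS hF hP.2.1)).2
  refine hodd ?_
  rw [← hH, Subgroup.relIndex]
  refine Subgroup.index_dvd_of_le fun a ha => ?_
  obtain ⟨g, hg, hge⟩ := mem_autInducedBy_iff'.1 (Subgroup.mem_subgroupOf.1 ha)
  show autFun (a : MulAut P) z = z
  rw [hge z hzP, cj_apply, ← hzc g hg.1, mul_inv_cancel_right]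

/-- The cycle moved to a fully normalized four-group and extended to its centralizer. -/
theorem exists_extended (hS : IsPGroup 2 S) (hr : RankTwo S) (hF : F.IsSaturated 2) {z t : Ω}
    (h : Four S V z t) (hzc : ∀ s ∈ S, z * s = s * z) {f : Ω → Ω} (hf : IsMap F V f)
    (hc : Cyclic3 V f) :
    ∃ W t', Four S W z t' ∧ ∃ k, IsMap F (centralizerIn S W) k ∧
      (∀ x ∈ centralizerIn S W, k x ∈ centralizerIn S W) ∧
      k z = t' ∧ k t' = z * t' ∧ k (z * t') = z := by
  have : Fact (Nat.Prime 2) := ⟨Nat.prime_two⟩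
  obtain ⟨W, hW, hWn⟩ := exists_fullyNormalized (F := F) h.le
  obtain ⟨g, hg, rfl⟩ := isConj_iff_map.1 hW
  obtain ⟨i, hi, hii, hig, hgi⟩ := hg.exists_inv
  have hiV : ∀ y ∈ img g V, i y ∈ V := fun y hy => hii.le (mem_img_self i hy)
  have hf' : IsMap F (img g V) (fun y => g (f (i y))) :=
    hg.comp (hf.comp hi hiV) fun y hy => hc.1 _ (hiV y hy)
  have hc' : Cyclic3 (img g V) (fun y => g (f (i y))) := by
    refine ⟨fun y hy => mem_img_self g (hc.1 _ (hiV y hy)), fun y hy hy1 e => ?_⟩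
    refine hc.2 _ (hiV y hy) (fun e1 => hy1 ?_) ?_
    · rw [← hgi y hy, e1, hg.map_one]
    · refine hg.inj (hc.1 _ (hiV y hy)) (hiV y hy) ?_
      rw [hgi y hy]; exact e
  have hgz : g z * g z = 1 := by rw [← hg.map_mul h.zV h.zV, h.z2, hg.map_one]
  have hgt : g t * g t = 1 := by rw [← hg.map_mul h.tV h.tV, h.t2, hg.map_one]
  have hgz1 : g z ≠ 1 := fun e => h.z1 (hg.inj h.zV V.one_mem (by rw [e, hg.map_one]))
  have hgt1 : g t ≠ 1 := fun e => h.t1 (hg.inj h.tV V.one_mem (by rw [e, hg.map_one]))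
  have hgne : g z ≠ g t := fun e => h.ne (hg.inj h.zV h.tV e).symm
  have hgc : g z * g t = g t * g z := by
    rw [← hg.map_mul h.zV h.tV, ← hg.map_mul h.tV h.zV, h.comm]
  have h' : Four S (img g V) (g z) (g t) := by
    refine ⟨hg.mem h.zV, hg.mem h.tV, hgz, hgt, hgz1, hgt1, hgne.symm, hgc, fun {x} => ?_⟩
    constructor
    · intro hx
      obtain ⟨y, hy, rfl⟩ := hg.mem_img.1 hx
      rcases h.mem.1 hy with rfl | rfl | rfl | rfl
      · exact Or.inl hg.map_one
      · exact Or.inr (Or.inl rfl)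
      · exact Or.inr (Or.inr (Or.inl rfl))
      · exact Or.inr (Or.inr (Or.inr (hg.map_mul h.zV h.tV)))
    · rintro (rfl | rfl | rfl | rfl)
      exacts [Subgroup.one_mem _, mem_img_self g h.zV, mem_img_self g h.tV,
        Subgroup.mul_mem _ (mem_img_self g h.zV) (mem_img_self g h.tV)]
  have hzW : z ∈ img g V :=
    h'.mem.2 (Or.inr (eq_of_four hr h.zS h.z2 h.z1 hzc h'.zS h'.tS h'.z2 h'.t2 hgc hgz1 hgt1 hgne))
  have ht'W := hc'.1 z hzW
  have ht'1 : g (f (i z)) ≠ 1 := fun e =>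
    h.z1 (hf'.inj hzW (Subgroup.one_mem _) (by rw [e, hf'.map_one]))
  have h'' := h'.rebase hzW ht'W h.z1 ht'1 (hc'.2 z hzW h.z1)
  obtain ⟨ht, hzt⟩ := cycle_eq h'' hf' hc' rfl
  have : Finite ↥(img g V) := finite_of_le hf'.le
  have himg : img (fun y => g (f (i y))) (img g V) = img g V :=
    eq_of_le_card (img_le hc'.1) hf'.card_img.ge
  obtain ⟨k, hk, hke⟩ := (isReceptive_iff.1 (fullyNormalized_receptive hS hF hWn)).2 _ _ hf' himg
  have hk' := hk.restrict (centralizerIn_le_nSub (S := S) (P := img g V)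
    (f := fun y => g (f (i y))))
  have hWC : img g V ≤ centralizerIn S (img g V) := fun x hx =>
    ⟨hf'.le hx, fun y hy => h''.comm' hy hx⟩
  refine ⟨img g V, _, h'', k, hk', fun x hx => ?_, hke z hzW, (hke _ ht'W).trans ht,
    (hke _ (Subgroup.mul_mem _ hzW ht'W)).trans hzt⟩
  have h1 := hk'.img_centralizerIn_le hWC le_rfl (mem_img_self k hx)
  rwa [img_congr hke, himg] at h1

end Cfsg.Agent.Fusion.RankTwoCentral
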