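/-
The group of order 64 with normal form `RankTwoInvol.Gens` has no automorphism that squares to
an inner one modulo the involutions and fixes only one involution.
-/
import Mathlib
import Cfsg.Agent.Lib.RankTwoInvol.Gens

set_option autoImplicit false

namespace Cfsg.Agent.Fusion.RankTwoCentral

open Cfsg.Agent.RankTwoInvol

/-- The square in the model. -/
def sqIdx (a : Idx) : Idx := mulIdx a a

/-- The neutral element of the model. -/
def oneIdx : Idx := ((0, 0), (false, false))

theorem sqIdx_sqIdx : ∀ a : Idx, sqIdx (sqIdx a) = oneIdx := by decide +kernel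

theorem invol_central : ∀ a b : Idx, sqIdx a = oneIdx → mulIdx a b = mulIdx b a := by
  decide +kernel

theorem card_invol :
    (Finset.univ.filter fun a : Idx => sqIdx a = oneIdx).card = 4 := by decide +kernel

theorem no_quaternion : ∀ a b : Idx, sqIdx a ≠ oneIdx → sqIdx b = sqIdx a →
    sqIdx (mulIdx a b) ≠ sqIdx a := by decide +kernel

variable {T : Type*} [Group T] (g : Gens T)

/-- The coordinates. -/
noncomputable def coordEquiv : Idx ≃ T := Equiv.ofBijective g.nf g.bij

theorem coordEquiv_mul (a b : Idx) :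
    coordEquiv g a * coordEquiv g b = coordEquiv g (mulIdx a b) := g.nf_mul a b

theorem coordEquiv_one : coordEquiv g oneIdx = 1 := by
  show g.nf oneIdx = 1
  simp [Gens.nf, oneIdx, g.ab_zero]

theorem sq_eq_one_iff {a : Idx} :
    coordEquiv g a * coordEquiv g a = 1 ↔ sqIdx a = oneIdx := by
  rw [coordEquiv_mul, ← coordEquiv_one g]
  exact (coordEquiv g).injective.eq_iff

include g in
theorem card_eq : Nat.card T = 64 := by
  rw [← Nat.card_congr (coordEquiv g)]
  simp [Idx, Nat.card_eq_fintype_card]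

include g in
theorem sq_sq (x : T) : x * x * (x * x) = 1 := by
  obtain ⟨a, rfl⟩ := (coordEquiv g).surjective x
  rw [coordEquiv_mul, coordEquiv_mul, ← coordEquiv_one g]
  exact congrArg _ (sqIdx_sqIdx a)

include g in
theorem central_of_sq {v : T} (hv : v * v = 1) (x : T) : v * x = x * v := by
  obtain ⟨a, rfl⟩ := (coordEquiv g).surjective v
  obtain ⟨b, rfl⟩ := (coordEquiv g).surjective x
  rw [coordEquiv_mul, coordEquiv_mul, invol_central a b ((sq_eq_one_iff g).1 hv)]

include g in
theorem card_sq_one : Nat.card {x : T // x * x = 1} = 4 := by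
  rw [← Nat.card_congr ((coordEquiv g).subtypeEquiv
    (p := fun a => sqIdx a = oneIdx) (q := fun x : T => x * x = 1)
    fun a => (sq_eq_one_iff g).symm), Nat.card_eq_fintype_card, Fintype.card_subtype]
  exact card_invol

include g in
theorem not_quaternion {x y : T} (hx : x * x ≠ 1) (hy : y * y = x * x) :
    x * y * (x * y) ≠ x * x := by
  obtain ⟨a, rfl⟩ := (coordEquiv g).surjective x
  obtain ⟨b, rfl⟩ := (coordEquiv g).surjective y
  rw [coordEquiv_mul, coordEquiv_mul] at hy
  rw [coordEquiv_mul, coordEquiv_mul, coordEquiv_mul]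
  exact fun h => no_quaternion a b (fun h' => hx ((sq_eq_one_iff g).2 h'))
    ((coordEquiv g).injective hy) ((coordEquiv g).injective h)

include g in
/-- No automorphism squares to the identity modulo involutions while fixing one involution only. -/
theorem no_swap (σ : T ≃* T) (hσ : ∀ w, w⁻¹ * σ (σ w) * (w⁻¹ * σ (σ w)) = 1) (z : T)
    (hfix : ∀ v, v * v = 1 → σ v = v → v ≠ 1 → v = z) : False := by
  classical
  have : Finite T := Finite.of_equiv _ (coordEquiv g)
  let V : Subgroup T :=
    { carrier := {v | v * v = 1}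
      one_mem' := one_mul 1
      mul_mem' := fun {a b} (ha : a * a = 1) (hb : b * b = 1) => by
        show a * b * (a * b) = 1
        rw [mul_assoc, ← mul_assoc b a b, ← central_of_sq g ha b, mul_assoc a b b, hb, mul_one, ha]
      inv_mem' := fun {a} (ha : a * a = 1) => by
        show a⁻¹ * a⁻¹ = 1
        rw [← mul_inv_rev, ha, inv_one] }
  have memV : ∀ {v : T}, v ∈ V ↔ v * v = 1 := Iff.rfl
  have hVn : V.Normal := ⟨fun v hv x => by
    rw [← central_of_sq g hv x, mul_inv_cancel_right]
    exact hv⟩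
  let q := QuotientGroup.mk' V
  have hq : ∀ {x : T}, q x = 1 ↔ x * x = 1 := fun {x} => by
    rw [QuotientGroup.mk'_apply, QuotientGroup.eq_one_iff, memV]
  have hexp : ∀ u : T ⧸ V, u * u = 1 := fun u => by
    obtain ⟨x, rfl⟩ := QuotientGroup.mk'_surjective V u
    rw [← map_mul]
    exact hq.2 (sq_sq g x)
  have hinv : ∀ u : T ⧸ V, u⁻¹ = u := fun u => inv_eq_of_mul_eq_one_right (hexp u)
  have hcomm : ∀ u u' : T ⧸ V, u * u' = u' * u := fun u u' => by
    have h := hinv (u * u')
    rwa [mul_inv_rev, hinv, hinv, eq_comm] at h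
  let δ : T →* T ⧸ V :=
    MonoidHom.mk' (fun w => (q w)⁻¹ * q (σ w)) fun a b => by
      simp only [map_mul, hinv]
      rw [mul_assoc (q a) (q b), ← mul_assoc (q b) (q (σ a)), hcomm (q b) (q (σ a))]
      simp only [mul_assoc]
  have hδ : ∀ w, δ w = (q w)⁻¹ * q (σ w) := fun _ => rfl
  let K := δ.ker
  have hK : ∀ {w : T}, w ∈ K ↔ q (σ w) = q w := fun {w} => by
    rw [MonoidHom.mem_ker, hδ, inv_mul_eq_one, eq_comm]
  have hσV : ∀ {v : T}, v ∈ V → σ v ∈ V := fun {v} hv => by
    rw [memV, ← map_mul, memV.1 hv, map_one]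
  have hVK : V ≤ K := fun v hv => hK.2 (by rw [hq.2 hv, hq.2 (hσV hv)])
  -- the image lies in the image of the kernel
  have himg : δ.range ≤ K.map q := by
    rintro _ ⟨w, rfl⟩
    refine ⟨w⁻¹ * σ w, hK.2 ?_, by rw [map_mul, map_inv, hδ]⟩
    have h2 : q (σ (σ w)) = q w := by
      have h := (hq (x := w⁻¹ * σ (σ w))).2 (hσ w)
      rwa [map_mul, map_inv, inv_mul_eq_one, eq_comm] at h
    rw [map_mul, map_inv, map_mul, map_mul, map_inv, map_inv, h2, hinv, hinv, hcomm]
  have hcard : 64 * 4 ≤ Nat.card K * Nat.card K := by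
    have h1 : Nat.card K * Nat.card δ.range = 64 := by
      rw [← card_eq g, ← Subgroup.index_ker, Subgroup.card_mul_index]
    have hV4 : Nat.card V = 4 := card_sq_one g
    have h2 : Nat.card (K.map q) * 4 = Nat.card K := by
      have hker : (q.comp K.subtype).ker = V.subgroupOf K := by
        ext ⟨x, hx⟩
        rw [MonoidHom.mem_ker, Subgroup.mem_subgroupOf, MonoidHom.comp_apply]
        exact hq
      have h := Subgroup.card_mul_index (q.comp K.subtype).ker
      rw [Subgroup.index_ker, MonoidHom.range_comp, K.range_subtype, hker,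
        Nat.card_congr (Subgroup.subgroupOfEquivOfLe hVK).toEquiv, hV4] at h
      rw [← h, mul_comm]
    have h3 : Nat.card δ.range ≤ Nat.card (K.map q) :=
      Nat.card_le_card_of_injective _ (Subgroup.inclusion_injective himg)
    nlinarith
  -- elements of the kernel outside `V` square to `z`
  have hsq : ∀ {w : T}, w ∈ K → w ∉ V → w * w = z := fun {w} hw hwV => by
    have hv : w⁻¹ * σ w ∈ V := hq.1 (by rw [map_mul, map_inv, hK.1 hw, inv_mul_cancel])
    refine hfix _ (sq_sq g w) ?_ hwV
    have hv2 : w⁻¹ * σ w * (w⁻¹ * σ w) = 1 := hv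
    rw [map_mul, show σ w = w * (w⁻¹ * σ w) from (mul_inv_cancel_left w _).symm,
      mul_assoc w, ← mul_assoc _ w, central_of_sq g hv2 w, mul_assoc w _ (w⁻¹ * σ w),
      hv2, mul_one]
  obtain ⟨w₁, hw₁K, hw₁⟩ : ∃ w ∈ K, w ∉ V := by
    by_contra h
    push Not at h
    have h1 : Nat.card K ≤ Nat.card V := Nat.card_le_card_of_injective _
      (Subgroup.inclusion_injective (show K ≤ V from h))
    rw [show Nat.card V = 4 from card_sq_one g] at h1
    nlinarith
  obtain ⟨w₂, hw₂K, hw₂, hw₁₂⟩ : ∃ w ∈ K, w ∉ V ∧ w₁ * w ∉ V := by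
    by_contra h
    push Not at h
    have hsub : (K : Set T) ⊆ (V : Set T) ∪ (fun v => w₁⁻¹ * v) '' (V : Set T) := fun w hw => by
      by_cases hwV : w ∈ V
      · exact Or.inl hwV
      · exact Or.inr ⟨w₁ * w, h w hw hwV, inv_mul_cancel_left _ _⟩
    have h1 := (Set.ncard_le_ncard hsub (Set.toFinite _)).trans
      ((Set.ncard_union_le _ _).trans (Nat.add_le_add le_rfl (Set.ncard_image_le (Set.toFinite _))))
    rw [← Nat.card_coe_set_eq, ← Nat.card_coe_set_eq] at h1
    change Nat.card K ≤ Nat.card V + Nat.card V at h1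
    rw [show Nat.card V = 4 from card_sq_one g] at h1
    nlinarith
  exact not_quaternion g (x := w₁) (y := w₂) hw₁ (by rw [hsq hw₂K hw₂, hsq hw₁K hw₁])
    (by rw [hsq (K.mul_mem hw₁K hw₂K) hw₁₂, hsq hw₁K hw₁])

end Cfsg.Agent.Fusion.RankTwoCentral

namespace Cfsg.Agent.Fusion.RankTwoCentral

open Cfsg.Agent.RankTwoInvol

variable {T : Type*} [Group T] (g : Gens T)

include g in
/-- Commutators square to one. -/
theorem commutator_sq_eq_one (w u : T) :
    w⁻¹ * (u * w * u⁻¹) * (w⁻¹ * (u * w * u⁻¹)) = 1 := by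
  have key : ∀ a b : T, (a⁻¹ * b⁻¹ * a * b) * (a⁻¹ * b⁻¹ * a * b) = 1 := by
    intro a b
    have hA : a⁻¹ * b⁻¹ * a * b = (a⁻¹ * b⁻¹ * (a⁻¹ * b⁻¹)) * (b * (a * a) * b⁻¹) * (b * b) := by
      group
    have h1 := sq_sq g (a⁻¹ * b⁻¹)
    have h2 : b * (a * a) * b⁻¹ * (b * (a * a) * b⁻¹) = 1 := by
      rw [show b * (a * a) * b⁻¹ * (b * (a * a) * b⁻¹) = b * (a * a * (a * a)) * b⁻¹ by group,
        sq_sq g a, mul_one, mul_inv_cancel]
    have h3 := sq_sq g b
    rw [hA]
    generalize a⁻¹ * b⁻¹ * (a⁻¹ * b⁻¹) = p, b * (a * a) * b⁻¹ = q, b * b = r at h1 h2 h3 ⊢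
    have c1 := central_of_sq g h1
    have c2 := central_of_sq g h2
    rw [show p * q * r * (p * q * r) = p * q * (r * p) * q * r by group, ← c1 r,
      show p * q * (p * r) * q * r = p * (q * p) * (r * q) * r by group, ← c1 q, ← c2 r,
      show p * (p * q) * (q * r) * r = p * p * (q * q) * (r * r) by group, h1, h2, h3,
      one_mul, one_mul]
  have h := key w u⁻¹
  rw [inv_inv] at h
  simpa only [mul_assoc] using h

end Cfsg.Agent.Fusion.RankTwoCentral
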