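/-
The 2-groups of rank two carrying a saturated system with trivial centre.
-/
import Mathlib
import Cfsg.Agent.Lib.Fusion.RankTwoCentral.Cycle
import Cfsg.Agent.Lib.Fusion.RankTwoCentral.NoSwap
import Cfsg.Agent.Lib.Involutions.QuasiDihedral
import Cfsg.Agent.S3224

set_option autoImplicit false

namespace Cfsg.Agent.Fusion.RankTwoCentral

open Cfsg Cfsg.FusionSystem Cfsg.Agent.Fusion.Basic Cfsg.Agent.Fusion.Saturation

universe u

variable {Ω : Type u} [Group Ω] {S V : Subgroup Ω} {F : FusionSystem S}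

/-- The automorphism of a subgroup defined by a map of the system. -/
theorem exists_mulAut [Finite S] {C : Subgroup Ω} {k : Ω → Ω} (hk : IsMap F C k)
    (hC : ∀ x ∈ C, k x ∈ C) : ∃ φ : MulAut C, ∀ x : C, (φ x : Ω) = k x := by
  have : Finite C := finite_of_le hk.le
  obtain ⟨α, -, he⟩ := hk.exists_aut (eq_of_le_card (img_le hC) hk.card_img.ge)
  exact ⟨α, fun x => (autFun_apply α x).symm.trans (he x x.2)⟩

/-- All involutions commuting with a four-group lie in it. -/
theorem mem_of_centralizerIn (hr : RankTwo S) {z t x : Ω} (h : Four S V z t)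
    (hx : x ∈ centralizerIn S V) (hx2 : x * x = 1) : x ∈ V :=
  h.mem.2 (hr z h.zS t h.tS x hx.1 h.z2 h.t2 hx2 h.comm (hx.2 z h.zV) (hx.2 t h.tV) h.z1 h.t1
    h.ne.symm)

theorem le_centralizerIn {z t : Ω} (h : Four S V z t) : V ≤ centralizerIn S V := fun x hx =>
  ⟨h.le hx, fun y hy => h.comm' hy hx⟩

theorem mem_centralizerIn {z t x : Ω} (h : Four S V z t) (hx : x ∈ S) (hz : z * x = x * z)
    (ht : t * x = x * t) : x ∈ centralizerIn S V := by
  refine ⟨hx, fun y hy => ?_⟩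
  rcases h.mem.1 hy with rfl | rfl | rfl | rfl
  · rw [one_mul, mul_one]
  · exact hz
  · exact ht
  · rw [mul_assoc, ht, ← mul_assoc, hz, mul_assoc]

theorem not_rankLE_one [Finite S] {C : Subgroup Ω} (hCS : C ≤ S) {z t : Ω} (h : Four S V z t)
    (hVC : V ≤ C) : ¬ PRankLE 2 1 C := by
  intro hle
  have : Finite C := finite_of_le hCS
  have h1 := hle (V.subgroupOf C)
    ⟨⟨fun a b => Subtype.ext (Subtype.ext (h.comm' a.2 b.2))⟩⟩
    fun a ha => Subtype.ext (by rw [sq]; exact h.sq ha)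
  rw [Nat.card_congr (Subgroup.subgroupOfEquivOfLe hVC).toEquiv] at h1
  have : Finite V := finite_of_le h.le
  have h4 : 3 ≤ Nat.card V := by
    refine le_trans (le_of_eq (Nat.card_eq_fintype_card (α := Fin 3)).symm)
      (Nat.card_le_card_of_injective
        ![(1 : V), ⟨z, h.zV⟩, ⟨t, h.tV⟩] ?_)
    intro i j hij
    have h' := congrArg Subtype.val hij
    fin_cases i <;> fin_cases j <;> simp [h.z1, h.t1, h.ne, h.z1.symm, h.t1.symm, h.ne.symm] at h' ⊢
  omega

theorem rankLE_two [Finite S] (hS : IsPGroup 2 S) (hr : ¬ PRankAtLeast 2 3 S) {C : Subgroup Ω}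
    (hCS : C ≤ S) : PRankLE 2 2 C := by
  have : Fact (Nat.Prime 2) := ⟨Nat.prime_two⟩
  intro A hA hA2
  by_contra hlt
  have : Finite C := finite_of_le hCS
  refine hr ⟨A.map (Subgroup.inclusion hCS), Subgroup.map_isMulCommutative A _, ?_, ?_⟩
  · rintro _ ⟨a, ha, rfl⟩
    rw [← map_pow, hA2 a ha, map_one]
  · rw [Subgroup.card_map_of_injective (Subgroup.inclusion_injective hCS)]
    obtain ⟨n, hn⟩ := IsPGroup.iff_card.1 ((hS.to_le hCS).to_subgroup A)
    rw [hn] at hlt ⊢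
    refine Nat.pow_le_pow_right two_pos ?_
    by_contra h
    exact hlt (Nat.pow_le_pow_right two_pos (by omega))

/-- The centralizer with a cycle on its involutions. -/
theorem centralizer_data [Finite S] (hS : IsPGroup 2 S) (hr : ¬ PRankAtLeast 2 3 S) {z t : Ω}
    (h : Four S V z t) {k : Ω → Ω} (hk : IsMap F (centralizerIn S V) k)
    (hm : ∀ x ∈ centralizerIn S V, k x ∈ centralizerIn S V) (hz : k z = t) (ht : k t = z * t)
    (hzt : k (z * t) = z) :
    ∃ φ : MulAut ↥(centralizerIn S V),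
      ∀ a b : ↥(centralizerIn S V), orderOf a = 2 → orderOf b = 2 → ∃ i : ℕ, (φ ^ i) a = b := by
  obtain ⟨φ, hφ⟩ := exists_mulAut hk hm
  refine ⟨φ, fun a b ha hb => ?_⟩
  have hr' := rankTwo_of hS hr
  have key : ∀ c : ↥(centralizerIn S V), orderOf c = 2 →
      (c : Ω) = z ∨ (c : Ω) = t ∨ (c : Ω) = z * t := by
    intro c hc
    have h2 : (c : Ω) * c = 1 := by
      have h1 := pow_orderOf_eq_one c
      rw [hc, sq] at h1
      exact congrArg Subtype.val h1
    refine (h.mem.1 (mem_of_centralizerIn hr' h c.2 h2)).resolve_left fun e => ?_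
    rw [orderOf_eq_one_iff.2 (Subtype.ext e)] at hc
    omega
  have e1 : ((φ ^ 1) a : Ω) = k a := by rw [pow_one, hφ]
  have e2 : ((φ ^ 2) a : Ω) = k (k a) := by rw [sq, MulAut.mul_apply, hφ, hφ]
  have e0 : ((φ ^ 0) a : Ω) = a := rfl
  rcases key a ha with a' | a' | a' <;> rcases key b hb with b' | b' | b'
  exacts [⟨0, Subtype.ext (e0.trans (a'.trans b'.symm))⟩,
    ⟨1, Subtype.ext (e1.trans ((congrArg k a').trans (hz.trans b'.symm)))⟩,
    ⟨2, Subtype.ext (e2.trans (by rw [a', hz, ht, b']))⟩,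
    ⟨2, Subtype.ext (e2.trans (by rw [a', ht, hzt, b']))⟩,
    ⟨0, Subtype.ext (e0.trans (a'.trans b'.symm))⟩,
    ⟨1, Subtype.ext (e1.trans ((congrArg k a').trans (ht.trans b'.symm)))⟩,
    ⟨1, Subtype.ext (e1.trans ((congrArg k a').trans (hzt.trans b'.symm)))⟩,
    ⟨2, Subtype.ext (e2.trans (by rw [a', hzt, hz, b']))⟩,
    ⟨0, Subtype.ext (e0.trans (a'.trans b'.symm))⟩]

/-- A group with a central involution whose four-group centralizer has index two and is abelian
homocyclic of exponent at least four is wreathed. -/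
theorem wreathed [Finite S] (hS : IsPGroup 2 S) (hr : RankTwo S) {z t : Ω} (h : Four S V z t)
    (hzc : ∀ s ∈ S, z * s = s * z) (htnc : ∃ s ∈ S, t * s ≠ s * t)
    {n : ℕ} (hn : 2 ≤ n)
    (e : ↥(centralizerIn S V) ≃* Multiplicative (ZMod (2 ^ n) × ZMod (2 ^ n))) :
    IsWreathed S := by
  classical
  have : Fact (Nat.Prime 2) := ⟨Nat.prime_two⟩
  set C := centralizerIn S V with hCdef
  have hCS : C ≤ S := centralizerIn_le
  have hVC : V ≤ C := le_centralizerIn h
  have : Finite C := finite_of_le hCS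
  have hab : ∀ {x y : Ω}, x ∈ C → y ∈ C → x * y = y * x := fun {x y} hx hy =>
    congrArg Subtype.val (e.injective (by rw [map_mul, map_mul, mul_comm]) :
      (⟨x, hx⟩ : C) * ⟨y, hy⟩ = ⟨y, hy⟩ * ⟨x, hx⟩)
  have hlt : C < S := by
    refine lt_of_le_of_ne hCS fun hC => ?_
    obtain ⟨s, hs, hne⟩ := htnc
    exact hne (hab (hVC h.tV) (hC ▸ hs))
  obtain ⟨g, hgN, hgC⟩ := exists_mem_normalizer_not_mem hS hlt
  have hg : g ∈ S := hgN.1
  have cjC : ∀ {x : Ω}, x ∈ C → g * x * g⁻¹ ∈ C := fun {x} hx =>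
    (Subgroup.mem_normalizer_iff.1 hgN.2 x).1 hx
  -- elements of `S` normalizing `V`
  have swap : ∀ {s : Ω}, s ∈ S → s * t * s⁻¹ ∈ V → s ∉ C → s * t * s⁻¹ = z * t := by
    intro s hs hV hsC
    rcases h.mem.1 hV with e | e | e | e
    · exact absurd (conj_eq_one_iff.1 e) h.t1
    · exact absurd (by
        calc t = s⁻¹ * (s * t * s⁻¹) * s := by group
          _ = z := by rw [e, mul_assoc, hzc s hs, inv_mul_cancel_left]) h.ne
    · exact absurd (mem_centralizerIn h hs (hzc s hs) (mul_inv_eq_iff_eq_mul.1 e).symm) hsC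
    · exact e
  have hgt : g * t * g⁻¹ = z * t := by
    refine swap hg (mem_of_centralizerIn hr h (cjC (hVC h.tV)) ?_) hgC
    rw [mul_assoc, show g⁻¹ * (g * t * g⁻¹) = t * g⁻¹ by group, ← mul_assoc, mul_assoc g, h.t2]
    group
  have hg2 : g * g ∈ C := by
    refine mem_centralizerIn h (S.mul_mem hg hg) (hzc _ (S.mul_mem hg hg)) ?_
    have h1 : g * g * t * (g * g)⁻¹ = t := by
      rw [show g * g * t * (g * g)⁻¹ = g * (g * t * g⁻¹) * g⁻¹ by group, hgt,
        show g * (z * t) * g⁻¹ = g * z * g⁻¹ * (g * t * g⁻¹) by group, hgt, ← hzc g hg,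
        mul_inv_cancel_right, ← mul_assoc, h.z2, one_mul]
    exact (mul_inv_eq_iff_eq_mul.1 h1).symm
  -- `t` is a `2 ^ (n - 1)`-th power
  have h2n : 1 ≤ n := le_trans one_le_two hn
  have hhalf : ((2 ^ (n - 1) : ℕ) : ZMod (2 ^ n)) = 2 ^ (n - 1) := by push_cast; ring
  obtain ⟨a₀, ha₀⟩ : ∃ a : C, (a : Ω) ^ 2 ^ (n - 1) = t := by
    obtain ⟨p, hp⟩ : ∃ p, Multiplicative.ofAdd p = e ⟨t, hVC h.tV⟩ :=
      ⟨Multiplicative.toAdd (e ⟨t, hVC h.tV⟩), ofAdd_toAdd _⟩
    have h2 : p + p = 0 := by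
      apply Multiplicative.ofAdd.injective
      rw [ofAdd_add, hp, ← map_mul, ofAdd_zero, ← map_one e]
      exact congrArg e (Subtype.ext h.t2)
    have hco : ∀ i : ZMod (2 ^ n), i + i = 0 → ∃ j : ZMod (2 ^ n), (2 ^ (n - 1) : ℕ) • j = i := by
      intro i hi
      rcases (Involutions.QuasiDihedral.add_self_eq_zero_iff h2n).1 hi with e | e
      · exact ⟨0, by rw [nsmul_zero, e]⟩
      · exact ⟨1, by rw [nsmul_one, hhalf, e]⟩
    obtain ⟨j₁, hj₁⟩ := hco p.1 (congrArg Prod.fst h2)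
    obtain ⟨j₂, hj₂⟩ := hco p.2 (congrArg Prod.snd h2)
    refine ⟨e.symm (Multiplicative.ofAdd (j₁, j₂)), ?_⟩
    rw [← SubgroupClass.coe_pow, ← map_pow, ← ofAdd_nsmul,
      show (2 ^ (n - 1) : ℕ) • (j₁, j₂) = p from Prod.ext hj₁ hj₂, hp, e.symm_apply_apply]
  set a := (a₀ : Ω) with hadef
  have haC : a ∈ C := a₀.2
  set b := g * a * g⁻¹ with hbdef
  have hbC : b ∈ C := cjC haC
  have hbt : b ^ 2 ^ (n - 1) = z * t := by rw [hbdef, conj_pow, ha₀, hgt]
  have hexp : ∀ {x : Ω}, x ∈ C → x ^ 2 ^ n = 1 := by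
    intro x hx
    have h1 : (⟨x, hx⟩ : C) ^ 2 ^ n = 1 := by
      apply e.injective
      rw [map_pow, map_one, ← ofAdd_toAdd (e ⟨x, hx⟩), ← ofAdd_nsmul]
      refine congrArg Multiplicative.ofAdd (Prod.ext ?_ ?_) <;>
        simp only [nsmul_eq_mul, Prod.fst_mul, Prod.snd_mul, Prod.fst_natCast, Prod.snd_natCast,
          ZMod.natCast_self, zero_mul, Prod.fst_zero, Prod.snd_zero]
    exact congrArg Subtype.val h1
  have hord : ∀ {x y : Ω}, x ∈ C → x ^ 2 ^ (n - 1) = y → y ≠ 1 → orderOf x = 2 ^ n := by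
    intro x y hx hxy hy
    obtain ⟨m, rfl⟩ : ∃ m, n = m + 1 := ⟨n - 1, by omega⟩
    rw [Nat.add_sub_cancel] at hxy
    exact orderOf_eq_prime_pow (by rw [hxy]; exact hy) (hexp hx)
  have hoa : orderOf a = 2 ^ n := hord haC ha₀ h.t1
  have hob : orderOf b = 2 ^ n := hord hbC hbt h.zt_ne.1
  have pow_half : ∀ {x : Ω} {w : Ω} (hx : x ^ 2 ^ n = 1) (hw : w ∈ Subgroup.zpowers x),
      w * w = 1 → w = 1 ∨ w = x ^ 2 ^ (n - 1) ∨ orderOf x ≠ 2 ^ n := by
    intro x w hx hw hw2
    by_cases ho : orderOf x = 2 ^ n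
    swap
    · exact Or.inr (Or.inr ho)
    obtain ⟨i, rfl⟩ := Subgroup.mem_zpowers_iff.1 hw
    rw [← zpow_add, ← orderOf_dvd_iff_zpow_eq_one, ho, Nat.cast_pow] at hw2
    obtain ⟨m, rfl⟩ : ∃ m, n = m + 1 := ⟨n - 1, by omega⟩
    obtain ⟨c, hc⟩ := hw2
    have hi : i = 2 ^ m * c := by
      rw [pow_succ, Nat.cast_ofNat] at hc
      linarith
    rcases Int.even_or_odd c with ⟨d, rfl⟩ | ⟨d, rfl⟩
    · refine Or.inl ?_
      rw [hi, show (2 : ℤ) ^ m * (d + d) = ((2 ^ (m + 1) : ℕ) : ℤ) * d by push_cast; ring, zpow_mul,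
        zpow_natCast, hx, one_zpow]
    · refine Or.inr (Or.inl ?_)
      rw [hi, show (2 : ℤ) ^ m * (2 * d + 1) = ((2 ^ (m + 1) : ℕ) : ℤ) * d + ((2 ^ m : ℕ) : ℤ) by
        push_cast; ring, zpow_add, zpow_mul, zpow_natCast, zpow_natCast, hx, one_zpow, one_mul]
      simp
  have hdisj : Subgroup.zpowers a ⊓ Subgroup.zpowers b = ⊥ := by
    by_contra hne
    obtain ⟨w, hw, hw1⟩ := (Subgroup.bot_or_exists_ne_one _).resolve_left hne
    have hwC : w ∈ C := (Subgroup.zpowers_le.2 haC) hw.1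
    obtain ⟨k, hk⟩ := IsPGroup.iff_orderOf.1 (hS.to_le hCS) ⟨w, hwC⟩
    rw [← Subgroup.orderOf_coe] at hk
    change orderOf w = 2 ^ k at hk
    obtain ⟨j, rfl⟩ : ∃ j, k = j + 1 := Nat.exists_eq_succ_of_ne_zero fun e => hw1 (by
      rwa [e, pow_zero, orderOf_eq_one_iff] at hk)
    have hu2 : w ^ 2 ^ j * w ^ 2 ^ j = 1 := by
      rw [← pow_add, ← two_mul, ← pow_succ', ← hk, pow_orderOf_eq_one]
    have hu1 : w ^ 2 ^ j ≠ 1 := pow_ne_one_of_lt_orderOf (by positivity)
      (hk ▸ Nat.pow_lt_pow_right one_lt_two (Nat.lt_succ_self j))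
    rcases pow_half (hexp haC) (Subgroup.pow_mem _ hw.1 _) hu2 with e | e | e
    · exact hu1 e
    · rcases pow_half (hexp hbC) (Subgroup.pow_mem _ hw.2 _) hu2 with e' | e' | e'
      · exact hu1 e'
      · rw [ha₀] at e; rw [hbt, e] at e'
        exact h.zt_ne.2.2 e'.symm
      · exact e' hob
    · exact e hoa
  -- `C` is the product of the two cyclic groups
  have hcardC : Nat.card C = 2 ^ n * 2 ^ n := by
    rw [Nat.card_congr e.toEquiv, Nat.card_congr Multiplicative.toAdd, Nat.card_prod, Nat.card_zmod]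
  have hprod : ∀ x ∈ C, ∃ u ∈ Subgroup.zpowers a, ∃ v ∈ Subgroup.zpowers b, x = u * v := by
    let m : Subgroup.zpowers a × Subgroup.zpowers b → C := fun p =>
      ⟨(p.1 : Ω) * p.2, C.mul_mem (Subgroup.zpowers_le.2 haC p.1.2) (Subgroup.zpowers_le.2 hbC p.2.2)⟩
    have hm : Function.Bijective m := by
      rw [Nat.bijective_iff_injective_and_card, Nat.card_prod, Nat.card_zpowers, Nat.card_zpowers,
        hoa, hob, hcardC]
      refine ⟨?_, rfl⟩
      exact fun p q hpq => Subgroup.mul_injective_of_disjoint (disjoint_iff.2 hdisj)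
        (congrArg Subtype.val hpq)
    intro x hx
    obtain ⟨p, hp⟩ := hm.2 ⟨x, hx⟩
    exact ⟨_, p.1.2, _, p.2.2, (congrArg Subtype.val hp).symm⟩
  -- the whole group normalizes `C`
  have htwo : ∀ s ∈ S, s * t * s⁻¹ ∈ V → s ∈ C ∨ g⁻¹ * s ∈ C := by
    intro s hs hV
    by_cases hsC : s ∈ C
    · exact Or.inl hsC
    refine Or.inr (mem_centralizerIn h (S.mul_mem (S.inv_mem hg) hs) (hzc _ (S.mul_mem (S.inv_mem hg) hs)) ?_)
    have h1 := (swap hs hV hsC).trans hgt.symm
    calc t * (g⁻¹ * s) = g⁻¹ * (g * t * g⁻¹) * s := by group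
      _ = g⁻¹ * (s * t * s⁻¹) * s := by rw [h1]
      _ = g⁻¹ * s * t := by group
  set N := normalizerIn S V with hNdef
  have memN : ∀ {s : Ω}, s ∈ S → s * t * s⁻¹ ∈ V → s ∈ N := by
    intro s hs hV
    have : Finite V := finite_of_le h.le
    refine ⟨hs, mem_normalizer_of_forall fun x hx => ?_⟩
    rcases h.mem.1 hx with rfl | rfl | rfl | rfl
    · rw [mul_one, mul_inv_cancel]; exact V.one_mem
    · rw [← hzc s hs, mul_inv_cancel_right]; exact h.zV
    · exact hV
    · rw [show s * (z * t) * s⁻¹ = s * z * s⁻¹ * (s * t * s⁻¹) by group, ← hzc s hs,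
        mul_inv_cancel_right]
      exact V.mul_mem h.zV hV
  have hCN : ∀ {x : Ω}, x ∈ C → x ∈ N := fun {x} hx => memN hx.1 (by
    rw [← hx.2 t h.tV, mul_inv_cancel_right]; exact h.tV)
  have hNC : ∀ {x : Ω}, x ∈ N → x ∈ C ∨ g⁻¹ * x ∈ C := fun {x} hx =>
    htwo x hx.1 ((Subgroup.mem_normalizer_iff.1 hx.2 t).1 h.tV)
  have hall : N = S := by
    refine eq_of_le_of_not_lt normalizerIn_le fun hN => ?_
    obtain ⟨s, hsN, hsN'⟩ := exists_mem_normalizer_not_mem hS hN
    have hs : s ∈ S := hsN.1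
    refine hsN' (memN hs ?_)
    have hcN : ∀ {x : Ω}, x ∈ N → s * x * s⁻¹ ∈ N := fun {x} hx =>
      (Subgroup.mem_normalizer_iff.1 hsN.2 x).1 hx
    -- `t = c * c` and `s c s⁻¹ ∈ N`
    obtain ⟨m, hm⟩ : ∃ m, 2 ^ (n - 1) = m * 2 := ⟨2 ^ (n - 2), by
      rw [← pow_succ]; congr 1; omega⟩
    have hc : a ^ m ∈ C := C.pow_mem haC m
    have hct : a ^ m * a ^ m = t := by rw [← pow_add, ← mul_two, ← hm, ha₀]
    have hu : s * t * s⁻¹ = (s * a ^ m * s⁻¹) * (s * a ^ m * s⁻¹) := by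
      rw [← hct]; group
    have hu2 : s * t * s⁻¹ * (s * t * s⁻¹) = 1 := by
      rw [show s * t * s⁻¹ * (s * t * s⁻¹) = s * (t * t) * s⁻¹ by group, h.t2, mul_one,
        mul_inv_cancel]
    refine mem_of_centralizerIn hr h ?_ hu2
    rcases hNC (hcN (hCN hc)) with hy | hy
    · rw [hu]; exact C.mul_mem hy hy
    · set y := g⁻¹ * (s * a ^ m * s⁻¹) with hy'
      have e1 : s * a ^ m * s⁻¹ = g * y := by rw [hy']; group
      rw [hu, e1, show g * y * (g * y) = (g * y * g⁻¹) * (g * g) * y by group]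
      exact C.mul_mem (C.mul_mem (cjC hy) hg2) hy
  have hindex : Nat.card S = 2 * Nat.card C := by
    have h1 : (C.subgroupOf S).index = 2 := by
      refine Subgroup.index_eq_two_iff.2 ⟨⟨g⁻¹, S.inv_mem hg⟩, fun x => ?_⟩
      show Xor ((x : Ω) * g⁻¹ ∈ C) ((x : Ω) ∈ C)
      by_cases hxC : (x : Ω) ∈ C
      · refine Or.inr ⟨hxC, fun hm => hgC ?_⟩
        have h2 := C.mul_mem (C.inv_mem hm) hxC
        rwa [mul_inv_rev, inv_inv, inv_mul_cancel_right] at h2
      · refine Or.inl ⟨?_, hxC⟩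
        have h2 := cjC ((hNC (hall.symm.le x.2)).resolve_left hxC)
        rwa [mul_inv_cancel_left] at h2
    have h3 := Subgroup.index_mul_card (C.subgroupOf S)
    rw [h1, Nat.card_congr (Subgroup.subgroupOfEquivOfLe hCS).toEquiv] at h3
    exact h3.symm
  -- an involution exchanging `a` and `b`
  have hgb : g * b * g⁻¹ = a := by
    rw [hbdef, show g * (g * a * g⁻¹) * g⁻¹ = g * g * a * (g * g)⁻¹ by group, hab hg2 haC,
      mul_inv_cancel_right]
  obtain ⟨u, hu, v, hv, huv⟩ := hprod _ hg2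
  obtain ⟨i, rfl⟩ := Subgroup.mem_zpowers_iff.1 hu
  obtain ⟨j, rfl⟩ := Subgroup.mem_zpowers_iff.1 hv
  have hij : a ^ i = a ^ j := by
    have h1 : g * (a ^ i * b ^ j) * g⁻¹ = a ^ i * b ^ j := by rw [← huv]; group
    rw [show g * (a ^ i * b ^ j) * g⁻¹ = (g * a ^ i * g⁻¹) * (g * b ^ j * g⁻¹) by group,
      ← conj_zpow, ← conj_zpow, ← hbdef, hgb,
      hab (C.zpow_mem hbC i) (C.zpow_mem haC j)] at h1
    have h2 := Prod.ext_iff.1 (Subgroup.mul_injective_of_disjoint (disjoint_iff.2 hdisj)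
      (a₁ := (⟨a ^ j, Subgroup.zpow_mem_zpowers a j⟩, ⟨b ^ i, Subgroup.zpow_mem_zpowers b i⟩))
      (a₂ := (⟨a ^ i, Subgroup.zpow_mem_zpowers a i⟩, ⟨b ^ j, Subgroup.zpow_mem_zpowers b j⟩)) h1)
    exact (congrArg Subtype.val h2.1).symm
  set w := g * a ^ (-j) with hwdef
  have hwS : w ∈ S := S.mul_mem hg (hCS (C.zpow_mem haC _))
  have hwC : w ∉ C := fun hm => hgC (by
    have := C.mul_mem hm (C.zpow_mem haC j)
    rwa [hwdef, mul_assoc, ← zpow_add, neg_add_cancel, zpow_zero, mul_one] at this)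
  have hw2 : w * w = 1 := by
    calc w * w = (g * a ^ (-j) * g⁻¹) * (g * g) * a ^ (-j) := by rw [hwdef]; group
      _ = b ^ (-j) * (a ^ j * b ^ j) * a ^ (-j) := by rw [← conj_zpow, ← hbdef, huv, hij]
      _ = 1 := by
        rw [hab (C.zpow_mem haC j) (C.zpow_mem hbC j), ← mul_assoc, ← zpow_add, neg_add_cancel,
          zpow_zero, one_mul, ← zpow_add, add_neg_cancel, zpow_zero]
  refine ⟨n, hn, by rw [hindex, hcardC]; ring, ⟨a, hCS haC⟩, ⟨b, hCS hbC⟩, ⟨w, hwS⟩,
    ?_, ?_, ?_, ?_, ?_⟩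
  · rw [← Subgroup.orderOf_coe]; exact hoa
  · exact Subtype.ext (hab haC hbC)
  · refine (Subgroup.eq_bot_iff_forall _).2 fun x hx => Subtype.ext ?_
    obtain ⟨⟨i, hi⟩, ⟨j, hj⟩⟩ := hx
    have h1 : (x : Ω) ∈ Subgroup.zpowers a ⊓ Subgroup.zpowers b :=
      ⟨⟨i, by rw [← hi]; simp⟩, ⟨j, by rw [← hj]; simp⟩⟩
    rw [hdisj] at h1
    simpa using h1
  · refine orderOf_eq_prime (Subtype.ext ?_) fun e => hwC ?_
    · simpa [sq] using hw2
    · rw [show w = 1 from congrArg Subtype.val e]; exact C.one_mem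
  · refine Subtype.ext ?_
    show w * a * w⁻¹ = b
    rw [hwdef, hbdef]
    group

/-- The possible shapes of a 2-group of rank two under a saturated system with trivial centre. -/
inductive Shape (S : Subgroup Ω) : Prop
  | dihedral (m : ℕ) (hm : 3 ≤ m) (h : Nonempty (S ≃* DihedralGroup m))
  | quasiDihedral (h : IsQuasiDihedral S)
  | wreathed (h : IsWreathed S)
  | homocyclic (n : ℕ) (hn : 1 ≤ n) (h : Nonempty (S ≃* Multiplicative (ZMod (2 ^ n) × ZMod (2 ^ n))))
  | unitary (h : ∀ {K : Type*} [Field K] [Fintype K], Fintype.card K = 16 →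
      ∀ T : Sylow 2 (PSU 3 K 4), Nonempty (S ≃* (T : Subgroup (PSU 3 K 4))))

theorem shape [Finite S] (hS : IsPGroup 2 S) (hF : F.IsSaturated 2)
    (hr2 : PRankAtLeast 2 2 S) (hr3 : ¬ PRankAtLeast 2 3 S) (hZ : F.center = ⊥) : Shape S := by
  classical
  have : Fact (Nat.Prime 2) := ⟨Nat.prime_two⟩
  have hr := rankTwo_of hS hr3
  have hne : S ≠ ⊥ := fun h => by
    obtain ⟨a, ha, -, -, -, -, -, ha1, -, -⟩ := exists_pair hr2
    rw [h, Subgroup.mem_bot] at ha
    exact ha1 ha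
  obtain ⟨z, hz, hz2, hz1, hzc⟩ := exists_central_involution hS hne
  by_cases huniq : ∀ u ∈ S, u * u = 1 → (∀ s ∈ S, u * s = s * u) → u = 1 ∨ u = z
  swap
  · push Not at huniq
    obtain ⟨t, ht, ht2, htc, ht1, htne⟩ := huniq
    have h := four_fourOf hz ht hz2 ht2 hz1 ht1 htne (hzc t ht)
    obtain ⟨f, hf, hc⟩ := cycle_of_two hS hr hF hZ h hzc htc
    obtain ⟨W, t', h', k, hk, hm, e1, e2, e3⟩ := exists_extended hS hr hF h hzc hf hc
    obtain ⟨φ, hφ⟩ := centralizer_data hS hr3 h' hk hm e1 e2 e3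
    have hWS : centralizerIn S W = S := by
      refine le_antisymm centralizerIn_le fun x hx => mem_centralizerIn h' hx (hzc x hx) ?_
      rcases hr z hz t ht t' h'.tS hz2 ht2 h'.t2 (hzc t ht) (hzc t' h'.tS) (htc t' h'.tS) hz1 ht1
        htne.symm with e | e | e | e <;> subst e
      · exact absurd rfl h'.t1
      · exact absurd rfl h'.ne
      · exact htc x hx
      · rw [mul_assoc, htc x hx, ← mul_assoc, hzc x hx, mul_assoc]
    have hC1 := not_rankLE_one centralizerIn_le h' (le_centralizerIn h')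
    have hC2 := rankLE_two hS hr3 (centralizerIn_le (S := S) (P := W))
    have hCp := hS.to_le (centralizerIn_le (S := S) (P := W))
    have : Finite ↥(centralizerIn S W) := finite_of_le centralizerIn_le
    let eS : ↥(centralizerIn S W) ≃* S := MulEquiv.subgroupCongr hWS
    obtain ⟨D⟩ := RankTwoInvol.exists_data hCp hC2 hC1 φ hφ
    by_cases hab : ∀ a b : ↥(centralizerIn S W), a * b = b * a
    · obtain ⟨n, hn, ⟨e⟩⟩ := D.homocyclic hab
      exact .homocyclic n hn ⟨eS.symm.trans e⟩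
    · refine .unitary fun hK T => ?_
      rcases S1237.result hCp hC2 hC1 φ hφ hK T with ⟨n, hn, ⟨e⟩⟩ | ⟨⟨e⟩⟩
      · exact absurd (fun a b => e.injective (by rw [map_mul, map_mul, mul_comm])) hab
      · exact ⟨eS.symm.trans e⟩
  obtain ⟨V, t, f, h, hf, hc⟩ := cycle_of_one hS hr hF hZ hz hz2 hz1 hzc huniq
  obtain ⟨W, t', h', k, hk, hm, e1, e2, e3⟩ := exists_extended hS hr hF h hzc hf hc
  obtain ⟨φ, hφ⟩ := centralizer_data hS hr3 h' hk hm e1 e2 e3
  have htnc : ∃ s ∈ S, t' * s ≠ s * t' := by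
    by_contra hcon
    push Not at hcon
    rcases huniq t' h'.tS h'.t2 hcon with e | e
    exacts [h'.t1 e, h'.ne e]
  have : Finite (centralizerIn S W) := finite_of_le centralizerIn_le
  obtain ⟨D⟩ := RankTwoInvol.exists_data (hS.to_le centralizerIn_le)
    (rankLE_two hS hr3 centralizerIn_le)
    (not_rankLE_one centralizerIn_le h' (le_centralizerIn h')) φ hφ
  by_cases hab : ∀ a b : (centralizerIn S W), a * b = b * a
  · obtain ⟨n, hn, ⟨e⟩⟩ := D.homocyclic hab
    rcases Nat.lt_or_ge n 2 with hlt | hge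
    swap
    · exact .wreathed (wreathed hS hr h' hzc htnc hge e)
    obtain rfl : n = 1 := by omega
    have hcardC : Nat.card (centralizerIn S W) = 4 := by
      rw [Nat.card_congr e.toEquiv, Nat.card_congr Multiplicative.toAdd, Nat.card_prod,
        Nat.card_zmod]
      norm_num
    let x : S := ⟨t', h'.tS⟩
    have hcent : Subgroup.centralizer ({x} : Set S) = (centralizerIn S W).subgroupOf S := by
      ext y
      rw [Subgroup.mem_centralizer_singleton_iff, Subgroup.mem_subgroupOf]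
      constructor
      · intro hy
        exact mem_centralizerIn h' y.2 (hzc y y.2) (congrArg Subtype.val hy).symm
      · intro hy
        exact Subtype.ext (hy.2 t' h'.tV).symm
    have hx : orderOf x = 2 := orderOf_eq_prime (Subtype.ext (by simp [x, sq, h'.t2]))
      fun e => h'.t1 (congrArg Subtype.val e)
    rcases S3224.result hS x hx (by
      rw [hcent, Nat.card_congr (Subgroup.subgroupOfEquivOfLe centralizerIn_le).toEquiv, hcardC])
      with ⟨m, ⟨e⟩⟩ | hq | h4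
    · refine .dihedral m ?_ ⟨e⟩
      obtain ⟨s, hs, hne'⟩ := htnc
      by_contra hm3
      have hlt : (centralizerIn S W) < S := lt_of_le_of_ne centralizerIn_le fun hCS =>
        hne' ((show s ∈ centralizerIn S W from hCS.symm.le hs).2 t' h'.tV)
      have h1 := card_lt_card hlt
      rw [hcardC, Nat.card_congr e.toEquiv] at h1
      rcases Nat.eq_zero_or_pos m with rfl | hm0
      · simp at h1
      · have : NeZero m := ⟨hm0.ne'⟩
        rw [DihedralGroup.nat_card] at h1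
        omega
    · exact .quasiDihedral hq
    · exfalso
      obtain ⟨s, hs, hne'⟩ := htnc
      have hCS : (centralizerIn S W) = S := eq_of_le_card centralizerIn_le (by rw [hcardC, h4])
      exact hne' ((show s ∈ centralizerIn S W from hCS.symm.le hs).2 t' h'.tV)
  · exfalso
    obtain ⟨G⟩ := D.nonabelian hab
    have hlt : (centralizerIn S W) < S := by
      refine lt_of_le_of_ne centralizerIn_le fun hCS => ?_
      obtain ⟨s, hs, hne'⟩ := htnc
      exact hne' ((show s ∈ centralizerIn S W from hCS.symm.le hs).2 t' h'.tV)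
    obtain ⟨g, hgN, hgC⟩ := exists_mem_normalizer_not_mem hS hlt
    obtain ⟨σ, hσ⟩ := exists_mulAut (F := F) (isMap_cj centralizerIn_le hgN.1)
      fun x hx => (Subgroup.mem_normalizer_iff.1 hgN.2 x).1 hx
    have hgt : g * t' * g⁻¹ = z * t' := by
      have hm' : g * t' * g⁻¹ ∈ W := mem_of_centralizerIn hr h'
        ((Subgroup.mem_normalizer_iff.1 hgN.2 t').1 (le_centralizerIn h' h'.tV)) (by
          rw [show g * t' * g⁻¹ * (g * t' * g⁻¹) = g * (t' * t') * g⁻¹ by group, h'.t2, mul_one,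
            mul_inv_cancel])
      rcases h'.mem.1 hm' with e | e | e | e
      · exact absurd (conj_eq_one_iff.1 e) h'.t1
      · exact absurd (by
          calc t' = g⁻¹ * (g * t' * g⁻¹) * g := by group
            _ = z := by rw [e, mul_assoc, hzc g hgN.1, inv_mul_cancel_left]) h'.ne
      · exact absurd (mem_centralizerIn h' hgN.1 (hzc g hgN.1) (mul_inv_eq_iff_eq_mul.1 e).symm) hgC
      · exact e
    have hg2 : g * g ∈ (centralizerIn S W) := by
      refine mem_centralizerIn h' (S.mul_mem hgN.1 hgN.1) (hzc _ (S.mul_mem hgN.1 hgN.1)) ?_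
      have h1 : g * g * t' * (g * g)⁻¹ = t' := by
        rw [show g * g * t' * (g * g)⁻¹ = g * (g * t' * g⁻¹) * g⁻¹ by group, hgt,
          show g * (z * t') * g⁻¹ = g * z * g⁻¹ * (g * t' * g⁻¹) by group, hgt, ← hzc g hgN.1,
          mul_inv_cancel_right, ← mul_assoc, h'.z2, one_mul]
      exact (mul_inv_eq_iff_eq_mul.1 h1).symm
    refine no_swap G σ (fun w => ?_) ⟨z, le_centralizerIn h' h'.zV⟩ fun v hv hfix hv1 => ?_
    · -- conjugation by an element of `(centralizerIn S W)`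
      have hc : σ (σ w) = ⟨g * g, hg2⟩ * w * ⟨g * g, hg2⟩⁻¹ := Subtype.ext (by
        rw [hσ, hσ]
        simp only [cj_apply, Subgroup.coe_mul, Subgroup.coe_inv]
        group)
      rw [hc]
      exact commutator_sq_eq_one G w ⟨g * g, hg2⟩
    · have hvW : (v : Ω) ∈ W := mem_of_centralizerIn hr h' v.2 (congrArg Subtype.val hv)
      have hfix' : g * v * g⁻¹ = v := (hσ v).symm.trans (congrArg Subtype.val hfix)
      refine Subtype.ext ?_
      rcases h'.mem.1 hvW with e | e | e | e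
      · exact absurd (Subtype.ext e) hv1
      · exact e
      · rw [e, hgt] at hfix'
        exact absurd hfix' h'.zt_ne.2.2
      · rw [e, show g * (z * t') * g⁻¹ = g * z * g⁻¹ * (g * t' * g⁻¹) by group, hgt,
          ← hzc g hgN.1, mul_inv_cancel_right] at hfix'
        exact absurd (mul_left_cancel hfix') h'.zt_ne.2.2

end Cfsg.Agent.Fusion.RankTwoCentral
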