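/-
Sylow 2-subgroups of groups of 2-rank two without isolated involutions.
-/
import Mathlib
import Cfsg.Agent.Lib.Fusion.RankTwoCentral.Main
import Cfsg.Agent.Lib.Fusion.Group
import Cfsg.Agent.Lib.Fusion.CentralQuot

set_option autoImplicit false

namespace Cfsg.Agent.Fusion.RankTwoCentral

open Cfsg Cfsg.FusionSystem Cfsg.Agent.Fusion.Basic Cfsg.Agent.Fusion.Saturation

universe v

variable {G : Type*} [Group G] [Finite G]

theorem prankAtLeast_two_of_not_le (h1 : ¬ PRankLE 2 1 G) (S : Sylow 2 G) :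
    PRankAtLeast 2 2 (S : Subgroup G) := by
  have : Fact (Nat.Prime 2) := ⟨Nat.prime_two⟩
  simp only [PRankLE, not_forall, not_le] at h1
  obtain ⟨A, hA, hA2, hlt⟩ := h1
  have hAp : IsPGroup 2 A := fun a => ⟨1, Subtype.ext (by rw [pow_one]; exact hA2 a a.2)⟩
  obtain ⟨c, hc⟩ := exists_conj_le_sylow S hAp
  let i : A →* (S : Subgroup G) :=
    ((MulAut.conj c).toMonoidHom.comp A.subtype).codRestrict _ fun a => hc a a.2
  have hi : Function.Injective i := fun a b h =>
    Subtype.ext ((MulAut.conj c).injective (congrArg Subtype.val h))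
  refine ⟨i.range, i.range_eq_map ▸ Subgroup.map_isMulCommutative (⊤ : Subgroup A) i, ?_, ?_⟩
  · rintro _ ⟨a, rfl⟩
    rw [← map_pow, show a ^ 2 = 1 from Subtype.ext (hA2 a a.2), map_one]
  · rw [← Nat.card_congr (MonoidHom.ofInjective hi).toEquiv]
    obtain ⟨n, hn⟩ := IsPGroup.iff_card.1 hAp
    rw [hn] at hlt ⊢
    exact Nat.pow_le_pow_right two_pos (by
      by_contra h
      exact absurd hlt (Nat.pow_le_pow_right two_pos (show n ≤ 1 by omega)).not_gt)

omit [Finite G] in
theorem not_prankAtLeast_three_of_le (h2 : PRankLE 2 2 G) (S : Subgroup G) :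
    ¬ PRankAtLeast 2 3 S := by
  rintro ⟨A, hA, hA2, hle⟩
  have h := h2 (A.map S.subtype) (Subgroup.map_isMulCommutative A S.subtype) (by
    rintro _ ⟨a, ha, rfl⟩
    rw [← map_pow, hA2 a ha, map_one])
  rw [Subgroup.card_map_of_injective S.subtype_injective] at h
  omega

/-- An involution of `S` fixed by the system of the group is isolated. -/
theorem isolated_of_central (S : Sylow 2 G) {Z : Subgroup G}
    (hc : (groupFusionSystem (S : Subgroup G)).IsCentral Z) {z : G} (hz : z ∈ Z)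
    (hz2 : z * z = 1) (hz1 : z ≠ 1) : IsIsolatedInvolution z := by
  have : Fact (Nat.Prime 2) := ⟨Nat.prime_two⟩
  refine ⟨orderOf_eq_prime (by rw [sq, hz2]) hz1, fun g hcomm => ?_⟩
  have hzS : z ∈ (S : Subgroup G) := hc.1 hz
  set w := g * z * g⁻¹ with hw
  let C := Subgroup.centralizer ({z} : Set G)
  have hSC : (S : Subgroup G) ≤ C := fun s hs => Subgroup.mem_centralizer_singleton_iff.2
    (CentralQuot.commute_of_central hc hz hs).symm
  have hwC : w ∈ C := Subgroup.mem_centralizer_singleton_iff.2 hcomm.eq.symm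
  have hwp : IsPGroup 2 (Subgroup.zpowers (⟨w, hwC⟩ : C)) :=
    IsPGroup.of_card (n := 1) (by
      rw [Nat.card_zpowers, pow_one]
      refine orderOf_eq_prime (Subtype.ext ?_) fun e => hz1 ?_
      · show w ^ 2 = 1
        rw [hw, conj_pow, sq, hz2, mul_one, mul_inv_cancel]
      · exact conj_eq_one_iff.1 (congrArg Subtype.val e))
  obtain ⟨c, hc'⟩ := exists_conj_le_sylow (S.subtype hSC) hwp
  have hcw : (c : G) * w * (c : G)⁻¹ ∈ (S : Subgroup G) := by
    simpa [Subgroup.mem_subgroupOf] using hc' _ (Subgroup.mem_zpowers _)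
  have hZ : Subgroup.zpowers z ≤ (S : Subgroup G) := Subgroup.zpowers_le.2 hzS
  have hf : IsMap (groupFusionSystem (S : Subgroup G)) (Subgroup.zpowers z) (cj ((c : G) * g)) := by
    refine Group.isMap_group_iff.2 ⟨hZ, fun x hx => ?_, (c : G) * g, fun x _ => rfl⟩
    obtain ⟨k, rfl⟩ := Subgroup.mem_zpowers_iff.1 hx
    rw [cj_apply, ← conj_zpow]
    refine Subgroup.zpow_mem _ ?_ k
    rw [show (c : G) * g * z * ((c : G) * g)⁻¹ = c * w * (c : G)⁻¹ by rw [hw]; group]
    exact hcw
  have hfix := CentralQuot.fix_of_central hc hf (Subgroup.mem_zpowers z) hz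
  rw [cj_apply] at hfix
  have hcz : (c : G) * z * (c : G)⁻¹ = z := by
    rw [Subgroup.mem_centralizer_singleton_iff.1 c.2, mul_inv_cancel_right]
  have e1 : (c : G) * g * z * ((c : G) * g)⁻¹ = (c : G) * w * (c : G)⁻¹ := by rw [hw]; group
  exact mul_left_cancel (mul_right_cancel ((e1.symm.trans hfix).trans hcz.symm))

/-- The Sylow 2-subgroups. -/
theorem sylow_shape (h2 : PRankLE 2 2 G) (h1 : ¬ PRankLE 2 1 G)
    (hiso : ∀ z : G, ¬ IsIsolatedInvolution z) (S : Sylow 2 G) :
    Shape.{_, v} (S : Subgroup G) := by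
  have : Fact (Nat.Prime 2) := ⟨Nat.prime_two⟩
  refine shape S.isPGroup' (Group.group_saturated S) (prankAtLeast_two_of_not_le h1 S)
    (not_prankAtLeast_three_of_le h2 _) ?_
  by_contra hne
  have hc := Normal.center_isCentral (F := groupFusionSystem (S : Subgroup G))
  obtain ⟨z, hz, hz2, hz1, -⟩ := exists_central_involution (S.isPGroup'.to_le hc.1) hne
  exact hiso z (isolated_of_central S hc hz hz2 hz1)

theorem dihedral_two {X : Type*} [Group X]
    (e : X ≃* Multiplicative (ZMod (2 ^ 1) × ZMod (2 ^ 1))) : Nonempty (X ≃* DihedralGroup 2) := by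
  have : IsKleinFour (DihedralGroup 2) := inferInstance
  have : Nontrivial (Multiplicative (ZMod (2 ^ 1) × ZMod (2 ^ 1))) :=
    ⟨Multiplicative.ofAdd (0, 0), Multiplicative.ofAdd (1, 0), by decide⟩
  have : IsKleinFour (Multiplicative (ZMod (2 ^ 1) × ZMod (2 ^ 1))) :=
    ⟨by simp, by
      rw [Monoid.exponent_eq_prime_iff Nat.prime_two]
      intro g hg
      have hadd : ∀ p : ZMod (2 ^ 1) × ZMod (2 ^ 1), p + p = 0 := by decide
      exact orderOf_eq_prime (by rw [sq]; exact hadd g.toAdd) hg⟩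
  obtain ⟨f⟩ := IsKleinFour.nonempty_mulEquiv
    (G₁ := Multiplicative (ZMod (2 ^ 1) × ZMod (2 ^ 1))) (G₂ := DihedralGroup 2)
  exact ⟨e.trans f⟩

end Cfsg.Agent.Fusion.RankTwoCentral
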