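/-
Simple saturated systems on 2-groups of rank two.
-/
import Mathlib
import Cfsg.Agent.Lib.Fusion.RankTwoCentral.Main
import Cfsg.Agent.Lib.Fusion.RankTwoCentral.ModelPSL
import Cfsg.Agent.Lib.Fusion.RankTwoSystems.SDModels
import Cfsg.Agent.Lib.Fusion.RankTwoSystems.WreathedModels
import Cfsg.Agent.Lib.Fusion.PPowerNormal
import Cfsg.Agent.Lib.Fusion.ComponentExists
import Cfsg.Agent.S5337

set_option autoImplicit false

namespace Cfsg.Agent.Fusion.RankTwoCentral

open Cfsg Cfsg.FusionSystem Cfsg.Agent.Fusion.Basic Cfsg.Agent.Fusion.Saturation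
  Cfsg.Agent.Fusion.RankTwoSystems

universe u

variable {Ω : Type u} [Group Ω] {S : Subgroup Ω} [Finite S] {F : FusionSystem S}

/-- A simple system on a group of rank two has no normal subgroup. -/
theorem no_normal (hS : IsPGroup 2 S) (hr : PRankAtLeast 2 2 S) (hsimple : F.IsSimple 2)
    {Q : Subgroup Ω} (hQ : F.IsNormal Q) : Q = ⊥ := by
  have : Fact (Nat.Prime 2) := ⟨Nat.prime_two⟩
  obtain ⟨hF, hS1, hsub⟩ := hsimple
  by_contra hne
  obtain ⟨-, hinn⟩ := (hsub _ _ (ComponentExists.inner_isNormalIn hS hF hQ)).resolve_left hne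
  obtain rfl : Q = S :=
    ((hsub _ _ (ComponentExists.inner_isNormalIn hS hF hQ)).resolve_left hne).1
  -- the centre of `S` is normal
  obtain ⟨z, hz, hz2, hz1, hzc⟩ := exists_central_involution hS hne
  let Z : Subgroup Ω := (Subgroup.center Q).map Q.subtype
  have hZ : F.IsNormal Z := by
    refine Normal.central_normal (Normal.isCentral_iff.2 ⟨Subgroup.map_subtype_le _, fun P f hf => ?_⟩)
    have hf' : IsMap (innerFusionSystem Q) P f :=
      isMap_of_subset_hom hinn hf
    obtain ⟨hP, g, hg, he⟩ := Subsystems.isMap_inner_iff.1 hf'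
    refine ⟨cj g, isMap_cj (sup_le hP (Subgroup.map_subtype_le _)) hg,
      fun x hx => (he x hx).symm, ?_⟩
    rintro _ ⟨c, hc, rfl⟩
    show g * (c : Ω) * g⁻¹ = c
    rw [show g * (c : Ω) = (c : Ω) * g from
      congrArg Subtype.val (Subgroup.mem_center_iff.1 hc ⟨g, hg⟩), mul_inv_cancel_right]
  have hZne : Z ≠ ⊥ := fun h => hz1 (by
    have h1 : z ∈ Z := ⟨⟨z, hz⟩, Subgroup.mem_center_iff.2 fun s =>
      Subtype.ext (hzc s s.2).symm, rfl⟩
    rw [h, Subgroup.mem_bot] at h1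
    exact h1)
  obtain ⟨hZQ, -⟩ := (hsub _ _ (ComponentExists.inner_isNormalIn hS hF hZ)).resolve_left hZne
  have hab : ∀ x ∈ Q, ∀ y ∈ Q, x * y = y * x := fun x hx y hy => by
    obtain ⟨c, hc, rfl⟩ := (hZQ.symm.le hx : x ∈ Z)
    exact (congrArg Subtype.val (Subgroup.mem_center_iff.1 hc ⟨y, hy⟩)).symm
  have h2 := ((S5337.result 2 hS F hF hab).1 ⟨hF, hS1, hsub⟩).1
  obtain ⟨A, -, -, hA⟩ := hr
  have := Subgroup.card_le_card_group A
  omega
where
  isMap_of_subset_hom {Q : Subgroup Ω} {F : FusionSystem Q}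
      (h : ∀ P : Subgroup Ω, (innerFusionSystem Q).Hom P = F.Hom P) {P : Subgroup Ω} {f : Ω → Ω}
      (hf : IsMap F P f) : IsMap (innerFusionSystem Q) P f := by
    obtain ⟨φ, hφ, he⟩ := hf
    exact ⟨φ, (h P).ge hφ, he⟩

theorem center_eq_bot (hS : IsPGroup 2 S) (hr : PRankAtLeast 2 2 S) (hsimple : F.IsSimple 2) :
    F.center = ⊥ :=
  no_normal hS hr hsimple (Normal.central_normal Normal.center_isCentral)

/-- A subgroup preserved by all maps, with the two-coset property, is trivial or everything. -/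
theorem invariant_trivial (hS : IsPGroup 2 S) (hsimple : F.IsSimple 2) {M : Subgroup Ω}
    (hMS : M ≤ S) (hn : ∀ a ∈ S, ∀ x ∈ M, a * x * a⁻¹ ∈ M)
    (hdiff : ∀ a ∈ S, a ∉ M → ∀ b ∈ S, b ∉ M → a * b ∈ M)
    (hinv : ∀ (P : Subgroup Ω) (f : Ω → Ω), IsMap F P f → ∀ x ∈ P, (f x ∈ M ↔ x ∈ M)) :
    M = ⊥ ∨ M = S := by
  have : Fact (Nat.Prime 2) := ⟨Nat.prime_two⟩
  obtain ⟨hF, -, hsub⟩ := hsimple
  have hhyp : F.hyperfocalSubgroup 2 ≤ M := Hyperfocal.hyp_le_of fun P hP α _ x hx => by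
    have h := hinv P _ (isMap_of_mem_autGroup hP α.2) x hx
    by_cases hxM : x ∈ M
    · exact M.mul_mem (M.inv_mem hxM) (h.2 hxM)
    · exact hdiff _ (S.inv_mem (hP hx)) (fun hi => hxM (inv_mem_iff.1 hi)) _
        (hP (autFun_mem _ hx)) (fun hm => hxM (h.1 hm))
  obtain ⟨E, hE, hEi⟩ := PPowerIndex.exists_pPowerIndex hS hF hMS hhyp
  exact (hsub _ _ (PPowerNormal.isNormalIn_of_pPowerIndex hS hF hMS hn hE hEi)).imp id And.left

/-- Both classes are active in a simple system on a group of maximal class. -/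
theorem both_of_simple (hS : IsPGroup 2 S) (hr : PRankAtLeast 2 2 S) (hsimple : F.IsSimple 2)
    (D : MC S) : D.Good ∧ D.Has F 0 ∧ D.Has F 1 := by
  have : Fact (Nat.Prime 2) := ⟨Nat.prime_two⟩
  have hF := hsimple.1
  have hne : ∀ P : Subgroup Ω, F.IsNormal P → P = ⊥ := fun P => no_normal hS hr hsimple
  have hg : D.Good := by
    by_contra hg
    refine hsimple.2.1 (hne S (Normal.normal_of_invariant hS hF fun P hP => ?_))
    rcases hP with rfl | hP
    · exact ⟨le_rfl, fun α _ => autFun_img α⟩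
    · exact absurd hP (D.no_essential_of_not_good hF hg P)
  have key : ∀ e : ℤ, ¬ ∀ i, D.Has F i → (2 : ℤ) ∣ i - e := by
    intro e h
    rcases invariant_trivial hS hsimple (D.M_le e)
      (fun a ha x hx => (D.M_conj ha (D.M_le e hx)).2 hx)
      (fun a ha haM b hb hbM => D.M_diff ha haM hb hbM)
      (fun P f hf => D.M_invariant hg hF h hf) with hM | hM
    · have h2 : D.x ^ (2 : ℤ) ∈ D.M e := D.x_mem_M.2 dvd_rfl
      rw [hM, Subgroup.mem_bot, D.zpow_eq_one] at h2
      have := Int.le_of_dvd two_pos h2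
      have : (2 : ℤ) ^ 2 ≤ 2 ^ D.n := pow_le_pow_right₀ (by norm_num) D.hn
      linarith
    · have h1 : D.x ^ (1 : ℤ) ∈ D.M e := hM.symm.le (D.mem_x 1)
      rw [D.x_mem_M] at h1
      omega
  refine ⟨hg, ?_, ?_⟩
  · by_contra h0
    refine key 1 fun i hi => ?_
    rcases D.has_zero_or_one hi with ⟨-, h⟩ | ⟨h, -⟩
    exacts [absurd h h0, h]
  · by_contra h0
    refine key 0 fun i hi => ?_
    rcases D.has_zero_or_one hi with ⟨h, -⟩ | ⟨-, h⟩
    exacts [by simpa using h, absurd h h0]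

/-- On a maximal class group a simple system is that of any group with perfect derived group. -/
theorem eq_sysOf (hS : IsPGroup 2 S) (hr : PRankAtLeast 2 2 S) (hsimple : F.IsSimple 2) (D : MC S)
    {G : Type} [Group G] [Finite G] {T : Sylow 2 G} (e0 : (T : Subgroup G) ≃* S)
    (hG : commutator G = ⊤) : F = sysOf e0 := by
  obtain ⟨hg, a0, a1⟩ := both_of_simple hS hr hsimple D
  obtain ⟨b0, b1⟩ := D.both_of_group hg e0 (hG ▸ le_top)
  exact D.eq_of_has hg hsimple.1 (sysOf_saturated e0) (iff_of_true a0 b0) (iff_of_true a1 b1)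

open Cfsg.Agent.Involutions.Wreathed in
/-- On a wreathed group a simple system is that of a group with perfect derived group. -/
theorem eq_sysOf_wreathed (hS : IsPGroup 2 S) (hsimple : F.IsSimple 2) (D : Gens ↥S)
    {G : Type} [Group G] [Finite G] {T : Sylow 2 G} (e₁ : (T : Subgroup G) ≃* S)
    (hG : commutator G = ⊤) : ∃ e : (T : Subgroup G) ≃* S, F = sysOf e := by
  have : Fact (Nat.Prime 2) := ⟨Nat.prime_two⟩
  have hF := hsimple.1
  have key : ∀ M : Subgroup Ω, M ≤ S → (∀ a ∈ S, a ∉ M → ∀ b ∈ S, b ∉ M → a * b ∈ M) →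
      (∀ P, F.IsEssential 2 P → P ≤ M) → M = ⊥ ∨ M = S := by
    intro M hMS hdiff hM
    refine invariant_trivial hS hsimple hMS
      (fun a ha x hx => (conj_iff_of_diff hdiff ha (hMS hx)).2 hx) hdiff fun P f hf w hw => ?_
    refine iff_of_eq (invariant_of_autGroup (F := F) hS hF (fun v => v ∈ M)
      (fun g hg v hv => propext (conj_iff_of_diff hdiff hg hv)) (fun Q hQ α hα v hv => ?_) hf w hw)
    rcases hQ with rfl | hQ
    · obtain ⟨t, ht, he⟩ := autGroup_conj_wreathed D hS hF hα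
      rw [he v hv]
      exact propext (conj_iff_of_diff hdiff ht hv)
    · exact propext (iff_of_true (hM Q hQ (autFun_mem α hv)) (hM Q hQ hv))
  have hA : F.IsEssential 2 (AG D) := by
    by_contra hA
    rcases key ((evenSub D).map S.subtype) (Subgroup.map_subtype_le _)
      (fun a ha haM b hb hbM => ⟨⟨a, ha⟩ * ⟨b, hb⟩, evenSub_diff D (fun h => haM ⟨_, h, rfl⟩)
        (fun h => hbM ⟨_, h, rfl⟩), rfl⟩)
      (fun P hP => by
        rcases essential_cases D hS hP with rfl | ⟨i, rfl⟩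
        · exact absurd hP hA
        · exact Subgroup.map_mono (shape_le_evenSub D i)) with h | h
    · have h2 : ((D.U 1 1 : S) : Ω) ∈ (evenSub D).map S.subtype :=
        ⟨_, (U_mem_evenSub D).2 ⟨1, rfl⟩, rfl⟩
      rw [h, Subgroup.mem_bot, OneMemClass.coe_eq_one, D.U_eq_one] at h2
      have : Fact (1 < 2 ^ D.n) := ⟨Nat.one_lt_two_pow (by have := D.hn; omega)⟩
      exact one_ne_zero h2.1
    · obtain ⟨t, ht, he⟩ := h.symm.le (D.U 1 0).2
      obtain rfl : t = D.U 1 0 := Subtype.ext he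
      rw [SetLike.mem_coe, U_mem_evenSub, add_zero] at ht
      exact Involutions.QuasiDihedral.not_even_one D.n1 ht
  have hX : EssX D F := by
    by_contra hX
    rcases key (AG D) (AG_le D) (fun a ha haA b hb hbA => AG_index D ha haA hb hbA) (fun P hP => by
      rcases essential_cases D hS hP with rfl | ⟨i, rfl⟩
      · exact le_rfl
      · exact absurd ⟨i, hP⟩ hX) with h | h
    · have h2 := U_mem_AG D 1 0
      rw [h, Subgroup.mem_bot, OneMemClass.coe_eq_one, D.U_eq_one] at h2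
      have : Fact (1 < 2 ^ D.n) := ⟨Nat.one_lt_two_pow (by have := D.hn; omega)⟩
      exact one_ne_zero h2.1
    · exact D.w_notMem_base 0 0 ((mem_AG D).1 (h.symm.le (D.w 0 0).2))
  have hG₁ : (T : Subgroup G) ≤ commutator G := hG ▸ le_top
  obtain ⟨DE, hnE, hAE, hstdE⟩ :=
    exists_std D hS (sysOf_saturated e₁) (both_of_group_wreathed D e₁ hS hG₁).1
  obtain ⟨D', hn', hA', hstd⟩ := exists_std D hS hF hA
  obtain ⟨σ, hσx, hσy, -⟩ := equiv_of_gens DE D' (hnE.trans hn'.symm)
  refine ⟨e₁.trans σ, ?_⟩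
  set E := sysOf (e₁.trans σ) with hEdef
  have hEsat : E.IsSaturated 2 := sysOf_saturated _
  obtain ⟨hEA, i, hEi⟩ := both_of_group_wreathed D (e₁.trans σ) hS hG₁
  have hstd' : Std D' E := std_transport e₁ DE D' σ (hnE.trans hn'.symm) hσx hσy hstdE
  obtain ⟨j, hj⟩ := hX
  have h1 : F ≤ E := le_of_wreathed D hS hF (fun _ => ⟨i, big_of_essential D hS hEsat hEi⟩)
    fun he => by
      rw [← hA'] at he ⊢
      exact autGroup_le_of_std D' hS hF he hstd hstd'
  have h2 : E ≤ F := le_of_wreathed D hS hEsat (fun _ => ⟨j, big_of_essential D hS hF hj⟩)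
    fun he => by
      rw [← hA'] at he ⊢
      exact autGroup_le_of_std D' hS hEsat he hstd' hstd
  exact fs_ext_le h1 h2

/-- The system of a group read on `S` is realized by it. -/
theorem realizedBy_sysOf {G : Type} [Group G] [Finite G] {T : Sylow 2 G}
    (e0 : (T : Subgroup G) ≃* S) :
    ∃ ι : S →* G, (sysOf e0).IsRealizedBy ι ∧ ∃ T' : Sylow 2 G, (T' : Subgroup G) = ι.range := by
  let ι : S →* G := (T : Subgroup G).subtype.comp e0.symm.toMonoidHom
  have hι : ∀ s : S, ι s = pos e0 s := fun s => by rw [pos_eq]; rfl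
  refine ⟨ι, ⟨fun a b hab => e0.symm.injective (Subtype.ext hab), fun P hP φ hφ => ?_⟩, T, ?_⟩
  · rw [hom_mem_iff, isMap_sysOf_iff]
    constructor
    · rintro ⟨-, -, g, hg⟩
      refine ⟨g, fun x => ?_⟩
      have h1 := hg x x.2
      rw [ext_apply] at h1
      rw [hι, hι]
      exact h1
    · rintro ⟨g, hg⟩
      refine ⟨hP, fun x hx => ?_, g, fun x hx => ?_⟩
      · rw [ext_of_mem φ hx]; exact hφ ⟨x, hx⟩
      · rw [ext_of_mem φ hx]
        have h1 := hg ⟨x, hx⟩
        rw [hι, hι] at h1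
        exact h1
  · show (T : Subgroup G) = ((T : Subgroup G).subtype.comp e0.symm.toMonoidHom).range
    rw [MonoidHom.range_comp, MonoidHom.range_eq_top.2 e0.symm.surjective, ← MonoidHom.range_eq_map,
      Subgroup.range_subtype]

end Cfsg.Agent.Fusion.RankTwoCentral
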